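import Cfsg.Agent.Lib.BrauerOrder.ZSection
import Cfsg.Agent.Lib.GW.Conseq.QDCentre.Main

/-!
A character of the principal `2`-block is constant on `s O` for a `2`-element `s` normalising an odd subgroup `O`
whose centralised part lies in the core of the centraliser of `s`.

Blueprint: `blueprint/RankTwo.md`, P10.
-/

set_option autoImplicit false
set_option linter.unusedSectionVars false
set_option linter.style.haveILetI false

namespace CfsgLib.QThree

open Cfsg CfsgLib.CharTheory CfsgLib.Blocks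

universe u

variable {G : Type u} [Group G] [Fintype G] {M : Ideal AlgInt}

/-- On the section of `s` a character of the principal block is constant on the core of the centraliser. -/
theorem section_const (hM : IsPModular 2 M) {χ : IrrCharacter G} (hχ : χ ∈ principalBlock M G) {s : G}
    (hs : ∃ k : ℕ, orderOf s = 2 ^ k) {v : G}
    (hv : v ∈ (oddCore ↥(Subgroup.centralizer ({s} : Set G))).map (Subgroup.centralizer ({s} : Set G)).subtype) :
    (χ : G → ℂ) (s * v) = (χ : G → ℂ) s := by
  classical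
  set H := Subgroup.centralizer ({s} : Set G)
  letI : Fintype H := Fintype.ofFinite _
  obtain ⟨y, hy, rfl⟩ := hv
  have hH : IsCentr s H := isCentr_singleton s
  have hodd : ¬ 2 ∣ Nat.card (oddCore H) := fun h =>
    Nat.not_even_iff_odd.mpr CfsgLib.odd_card_oddCore (even_iff_two_dvd.mpr h)
  have hyr : ¬ 2 ∣ orderOf y := fun h => hodd (h.trans (Subgroup.orderOf_dvd_natCard _ hy))
  have e1 := sec_eq_overBlocks hM hH hs (principalBlock_isPBlock (M := M) (G := G)) χ (y := y) hyr
  have e2 := sec_eq_overBlocks hM hH hs (principalBlock_isPBlock (M := M) (G := G)) χ (y := (1 : H)) (by simp)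
  rw [ind_of_mem hχ, one_mul, overBlocks_principal hM hH hs, blockPart_apply] at e1 e2
  rw [OneMemClass.coe_one, mul_one] at e2
  rw [show (H.subtype y) = (y : G) from rfl, ← e1, ← e2]
  exact Finset.sum_congr rfl fun ψ hψ => by rw [principal_kernel hM hodd (mem_bset.1 hψ) hy]

/-- In the coset of an odd subgroup by a `2`-element normalising it, every element is conjugate to a commuting one. -/
theorem coset_conj {s : G} (hs : ∃ k : ℕ, orderOf s = 2 ^ k) {O : Subgroup G} (hO : Odd (Nat.card O))
    (hn : s ∈ Subgroup.normalizer (O : Set G)) {o : G} (ho : o ∈ O) :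
    ∃ v ∈ O, Commute s v ∧ IsConj (s * v) (s * o) := by
  classical
  obtain ⟨k, hk⟩ := hs
  set K := (Subgroup.centralizer ({s} : Set G)).subgroupOf O
  have hinv : ∀ x ∈ O, s⁻¹ * x * s ∈ O := fun x hx => by
    have := (Subgroup.mem_normalizer_iff.mp (inv_mem hn) x).mp hx
    rwa [inv_inv] at this
  have hK : ∀ v : K, Commute s ((v : O) : G) := fun v =>
    (Subgroup.mem_centralizer_singleton_iff.mp (Subgroup.mem_subgroupOf.mp v.2)).symm
  let f : (O ⧸ K) × K → O := fun x =>
    ⟨s⁻¹ * ((x.1.out : G) * (s * ((x.2 : O) : G)) * (x.1.out : G)⁻¹), by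
      rw [show s⁻¹ * ((x.1.out : G) * (s * ((x.2 : O) : G)) * (x.1.out : G)⁻¹) =
        s⁻¹ * (x.1.out : G) * s * (((x.2 : O) : G) * (x.1.out : G)⁻¹) by group]
      exact mul_mem (hinv _ x.1.out.2) (mul_mem (x.2 : O).2 (inv_mem x.1.out.2))⟩
  -- a power killing the odd part
  obtain ⟨m, hm⟩ : ∃ m : ℕ, ∀ v : K, (s * ((v : O) : G)) ^ m = s := by
    have hco : (orderOf s).Coprime (Nat.card O) := hk ▸ (Nat.coprime_two_left.mpr hO).pow_left k
    obtain ⟨m, h1, h2⟩ := Nat.chineseRemainder hco 1 0
    refine ⟨m, fun v => ?_⟩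
    have hv : ((v : O) : G) ^ Nat.card O = 1 := congrArg Subtype.val (pow_card_eq_one' (x := (v : O)))
    obtain ⟨t, ht⟩ := (Nat.modEq_zero_iff_dvd.mp h2)
    rw [(hK v).mul_pow, show ((v : O) : G) ^ m = 1 by rw [ht, pow_mul, hv, one_pow], mul_one]
    conv_rhs => rw [← pow_one s]
    exact pow_eq_pow_iff_modEq.mpr h1
  have hinj : Function.Injective f := by
    rintro ⟨a, v⟩ ⟨b, w⟩ e
    have e1 := mul_left_cancel (congrArg Subtype.val e)
    have e2 := congrArg (fun g : G => g ^ m) e1
    simp only [conj_pow, hm] at e2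
    have hab : a = b := by
      rw [← a.out_eq, ← b.out_eq]
      refine QuotientGroup.eq.mpr (Subgroup.mem_subgroupOf.mpr (Subgroup.mem_centralizer_singleton_iff.mpr ?_))
      show (a.out : G)⁻¹ * (b.out : G) * s = s * ((a.out : G)⁻¹ * (b.out : G))
      calc (a.out : G)⁻¹ * (b.out : G) * s = (a.out : G)⁻¹ * ((b.out : G) * s * (b.out : G)⁻¹) * (b.out : G) := by group
        _ = _ := by rw [← e2]; group
    subst hab
    have e3 := mul_left_cancel (mul_left_cancel (mul_right_cancel e1))
    exact Prod.ext rfl (Subtype.ext (Subtype.ext e3))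
  have hbij := (Nat.bijective_iff_injective_and_card f).mpr ⟨hinj, by
    rw [Nat.card_prod, ← Subgroup.index_eq_card, mul_comm, Subgroup.card_mul_index]⟩
  obtain ⟨⟨a, v⟩, e⟩ := hbij.2 ⟨o, ho⟩
  refine ⟨((v : O) : G), (v : O).2, hK v, isConj_iff.mpr ⟨(a.out : G), ?_⟩⟩
  rw [← show s⁻¹ * ((a.out : G) * (s * ((v : O) : G)) * (a.out : G)⁻¹) = o from congrArg Subtype.val e,
    mul_inv_cancel_left]

/-- **A principal block character is constant on `s O`.** -/
theorem const_on_coset (hM : IsPModular 2 M) {χ : IrrCharacter G} (hχ : χ ∈ principalBlock M G) {s : G}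
    (hs : ∃ k : ℕ, orderOf s = 2 ^ k) {O : Subgroup G} (hO : Odd (Nat.card O))
    (hn : s ∈ Subgroup.normalizer (O : Set G))
    (hbal : ∀ v ∈ O, Commute s v →
      v ∈ (oddCore ↥(Subgroup.centralizer ({s} : Set G))).map (Subgroup.centralizer ({s} : Set G)).subtype)
    {o : G} (ho : o ∈ O) : (χ : G → ℂ) (s * o) = (χ : G → ℂ) s := by
  obtain ⟨v, hv, hc, hconj⟩ := coset_conj hs hO hn ho
  obtain ⟨g, hg⟩ := isConj_iff.1 hconj
  rw [← hg, isClassFunction_irr χ.2 (s * v) g, section_const hM hχ hs (hbal v hv hc)]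

end CfsgLib.QThree
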