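import Cfsg.Agent.Lib.BrauerOrder.Line
import Cfsg.Agent.Lib.PSolvable

/-!
`C / O(C)` with normal `SL₂(3)`: an element of odd order acts faithfully on the four Sylow `3`-subgroups, so it has
order dividing three there and commutes with no noncentral involution.

Blueprint: `blueprint/RankTwo.md`, P10.
-/

set_option autoImplicit false
set_option linter.unusedSectionVars false
set_option linter.style.haveILetI false

namespace CfsgLib.QThree

open Cfsg Matrix CfsgLib.BrauerOrder CfsgLib.BrauerOrder.Line CfsgLib.PSL2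
open scoped Pointwise

universe u v

theorem sl_gen {F : Type v} [Field F] {M : Subgroup (SpecialLinearGroup (Fin 2) F)} (hu : ∀ t, uSL t ∈ M)
    (hv : ∀ t, vSL t ∈ M) (A : SpecialLinearGroup (Fin 2) F) : A ∈ M := by
  have hc : ∀ A : SpecialLinearGroup (Fin 2) F, A.1 1 0 ≠ 0 → A ∈ M := by
    intro A hA
    have e : A = uSL ((A.1 0 0 - 1) / A.1 1 0) * vSL (A.1 1 0) *
        uSL ((A.1 1 1 - 1) / A.1 1 0) := by
      have hdet := A.2
      rw [Matrix.det_fin_two] at hdet
      refine Matrix.SpecialLinearGroup.ext _ _ fun i j => ?_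
      show A.1 i j = ((uSL ((A.1 0 0 - 1) / A.1 1 0)).1 * (vSL (A.1 1 0)).1 * (uSL ((A.1 1 1 - 1) / A.1 1 0)).1) i j
      rw [coe_uSL, coe_vSL, coe_uSL]
      fin_cases i <;> fin_cases j <;> simp [Matrix.mul_apply, Fin.sum_univ_two] <;>
        field_simp <;> first | ring1 | linear_combination (-1 : F) * hdet
    rw [e]
    exact mul_mem (mul_mem (hu _) (hv _)) (hu _)
  by_cases hA : A.1 1 0 = 0
  · have h' := hc (vSL 1 * A) (by
      have hdet := A.2
      rw [Matrix.det_fin_two, hA, mul_zero, sub_zero] at hdet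
      simp [coe_vSL, Matrix.mul_apply, Fin.sum_univ_two, hA]
      exact fun h => by simp [h] at hdet)
    have := mul_mem (inv_mem (hv 1)) h'
    rwa [inv_mul_cancel_left] at this
  · exact hc A hA

section Centre

variable {H : Type u} [Group H] [Finite H]

/-- In a group without odd core, a normal subgroup whose commutators are central of order two has no element of odd
order. -/
theorem eq_one_of_odd (hO : oddCore H = ⊥) (K : Subgroup H) [K.Normal]
    (hc : ∀ a ∈ K, ∀ b ∈ K, (∀ h ∈ K, h * (a * b * a⁻¹ * b⁻¹) = a * b * a⁻¹ * b⁻¹ * h) ∧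
      (a * b * a⁻¹ * b⁻¹) * (a * b * a⁻¹ * b⁻¹) = 1)
    {x : H} (hx : x ∈ K) (ho : Odd (orderOf x)) : x = 1 := by
  have hcen : ∀ y ∈ K, Odd (orderOf y) → ∀ b ∈ K, y * b = b * y := by
    intro y hy hyo b hb
    obtain ⟨m, hm⟩ := hyo
    set a := y ^ (m + 1) with ha
    have haK : a ∈ K := pow_mem hy _
    have hy2 : a * a = y := by
      rw [ha, ← pow_add, show m + 1 + (m + 1) = orderOf y + 1 by omega, pow_succ, pow_orderOf_eq_one, one_mul]
    obtain ⟨hcz, hcc⟩ := hc a haK b hb
    set c := a * b * a⁻¹ * b⁻¹ with hcd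
    have h1 : a * b = c * b * a := by rw [hcd]; group
    rw [← hy2]
    calc a * a * b = a * (a * b) := mul_assoc _ _ _
      _ = a * (c * (b * a)) := by rw [h1, mul_assoc]
      _ = c * (a * b * a) := by rw [← mul_assoc a c, hcz a haK]; group
      _ = c * c * (b * (a * a)) := by rw [h1]; group
      _ = b * (a * a) := by rw [hcc, one_mul]
  -- the odd elements form a normal subgroup
  let P : Subgroup H :=
    { carrier := {y | y ∈ K ∧ Odd (orderOf y)}
      one_mem' := ⟨one_mem K, by simp⟩
      mul_mem' := fun {a b} ha hb => ⟨mul_mem ha.1 hb.1, by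
        have h := (show Commute a b from hcen a ha.1 ha.2 b hb.1).orderOf_mul_dvd_mul_orderOf
        exact (ha.2.mul hb.2).of_dvd_nat h⟩
      inv_mem' := fun {a} ha => ⟨inv_mem ha.1, by rw [orderOf_inv]; exact ha.2⟩ }
  haveI : P.Normal := ⟨fun y hy g => ⟨(inferInstance : K.Normal).conj_mem y hy.1 g, by
    rw [show g * y * g⁻¹ = (MulAut.conj g).toMonoidHom y from rfl,
      orderOf_injective _ (MulAut.conj g).injective y]; exact hy.2⟩⟩
  have hodd : Odd (Nat.card P) := by
    by_contra he
    rw [Nat.not_odd_iff_even, even_iff_two_dvd] at he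
    haveI : Fact (Nat.Prime 2) := ⟨Nat.prime_two⟩
    obtain ⟨t, ht⟩ := exists_prime_orderOf_dvd_card' 2 he
    have := t.2.2
    rw [Subgroup.orderOf_coe, ht] at this
    exact absurd this (by decide)
  have hle : P ≤ oddCore H := CfsgLib.le_oddCore hodd
  rw [hO] at hle
  exact Subgroup.mem_bot.mp (hle (show x ∈ P from ⟨hx, ho⟩))

end Centre

section Perm

variable {C : Type u} [Group C] [Finite C] {N : Subgroup (C ⧸ oddCore C)} [N.Normal] {F : Type v} [Field F]
  [Fintype F] (e : N ≃* SpecialLinearGroup (Fin 2) F) (hF : Fintype.card F = 3)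
  (hcom : ∀ a b : C ⧸ oddCore C, a * b * a⁻¹ * b⁻¹ ∈ N)

include e hF hcom

/-- An element of odd order fixing the four Sylow subgroups lies in the core. -/
theorem mem_core_of_fix {c : C} (ho : Odd (orderOf ((c : C ⧸ oddCore C))))
    (hfix : ∀ P : Sylow 3 N, act N c • P = P) : c ∈ oddCore C := by
  haveI : Fact (Nat.Prime 3) := ⟨Nat.prime_three⟩
  have hF' : Fintype.card F = 3 ^ 1 := by rw [hF, pow_one]
  set α := act N c
  have hgen : ∀ m : N, α m = m := by
    let M : Subgroup (SpecialLinearGroup (Fin 2) F) :=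
      { carrier := {A | α (e.symm A) = e.symm A}
        one_mem' := by simp
        mul_mem' := fun {a b} ha hb => by
          show α (e.symm (a * b)) = e.symm (a * b)
          rw [map_mul, map_mul, ha, hb]
        inv_mem' := fun {a} ha => by
          show α (e.symm a⁻¹) = e.symm a⁻¹
          rw [map_inv, map_inv, ha] }
    have h3 : ∀ s : F, s ≠ 0 → uSL s ∈ M ∧ vSL s⁻¹ ∈ M := fun s hs =>
      fix_three e hF' one_ne_zero (hfix _) (hfix _) hs (hfix _)
    have hu : ∀ t, uSL t ∈ M := fun t => by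
      by_cases ht : t = 0
      · subst ht
        convert one_mem M
        exact Subtype.ext (by simp [coe_uSL, Matrix.one_fin_two])
      · exact (h3 t ht).1
    have hv : ∀ t, vSL t ∈ M := fun t => by
      by_cases ht : t = 0
      · subst ht
        convert one_mem M
        exact Subtype.ext (by simp [coe_vSL, Matrix.one_fin_two])
      · simpa using (h3 t⁻¹ (inv_ne_zero ht)).2
    intro m
    have := sl_gen hu hv (e m)
    change α (e.symm (e m)) = e.symm (e m) at this
    rwa [e.symm_apply_apply] at this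
  set x : C ⧸ oddCore C := (c : C ⧸ oddCore C)
  set K := Subgroup.centralizer (N : Set (C ⧸ oddCore C))
  have hxK : x ∈ K := Subgroup.mem_centralizer_iff.mpr fun m hm => by
    have h := congrArg Subtype.val (hgen ⟨m, hm⟩)
    rw [act_apply, mul_inv_eq_iff_eq_mul] at h
    exact h.symm
  refine (QuotientGroup.eq_one_iff c).mp
    (eq_one_of_odd (CfsgLib.pPrimeCore_quotient_eq_bot 2) K (fun a ha b hb => ?_) hxK ho)
  set q := a * b * a⁻¹ * b⁻¹ with hq
  have hqK : q ∈ K := mul_mem (mul_mem (mul_mem ha hb) (inv_mem ha)) (inv_mem hb)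
  have hqN : q ∈ N := hcom a b
  refine ⟨fun h hh => (Subgroup.mem_centralizer_iff.mp hh q hqN).symm, ?_⟩
  by_cases h1 : (⟨q, hqN⟩ : N) = 1
  · rw [show q = 1 from congrArg Subtype.val h1, one_mul]
  · have hm := coe_eq_neg_one e h1 fun m => Subtype.ext (Subgroup.mem_centralizer_iff.mp hqK m m.2).symm
    refine congrArg Subtype.val (show (⟨q, hqN⟩ : N) * ⟨q, hqN⟩ = 1 from e.injective ?_)
    rw [map_mul, map_one]
    refine Matrix.SpecialLinearGroup.ext _ _ fun i j => ?_
    show ((e ⟨q, hqN⟩).1 * (e ⟨q, hqN⟩).1) i j = (1 : Matrix (Fin 2) (Fin 2) F) i j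
    rw [hm, neg_mul_neg, mul_one]

/-- An element of odd order: its cube is in the core, and it fixes one of the four points unless it is in the core. -/
theorem odd_facts {c : C} (ho : Odd (orderOf ((c : C ⧸ oddCore C)))) :
    c ^ 3 ∈ oddCore C ∧ (c ∈ oddCore C ∨ fx N 3 c = 1) := by
  classical
  haveI : Fact (Nat.Prime 3) := ⟨Nat.prime_three⟩
  have hF' : Fintype.card F = 3 ^ 1 := by rw [hF, pow_one]
  letI := Fintype.ofFinite (Sylow 3 N)
  have hn4 : Fintype.card (Sylow 3 N) = 4 := by
    rw [← Nat.card_eq_fintype_card, card_points e hF' one_ne_zero, hF]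
  let σ : Equiv.Perm (Sylow 3 N) := MulAction.toPermHom _ _ (act N c)
  have hord : orderOf σ ∣ 3 := by
    have h1 : Odd (orderOf σ) := by
      refine ho.of_dvd_nat (orderOf_dvd_of_pow_eq_one ?_)
      set k := orderOf ((c : C ⧸ oddCore C))
      have hk : act N (c ^ k) = 1 := act_odd ((QuotientGroup.eq_one_iff _).mp (by
        rw [QuotientGroup.mk_pow, pow_orderOf_eq_one]))
      show σ ^ k = 1
      rw [← map_pow, ← map_pow, hk, map_one]
    have h2 : orderOf σ ∣ 2 ^ 3 * 3 := by
      refine (orderOf_dvd_natCard σ).trans (dvd_of_eq ?_)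
      rw [Nat.card_perm, Nat.card_eq_fintype_card, hn4]; rfl
    exact (Nat.Coprime.dvd_mul_left ((Nat.coprime_two_right.mpr h1).pow_right 3)).mp h2
  have hσ3 : σ ^ 3 = 1 := orderOf_dvd_iff_pow_eq_one.mp hord
  refine ⟨mem_core_of_fix e hF hcom ?_ fun P => ?_, ?_⟩
  · rw [QuotientGroup.mk_pow]
    exact ho.of_dvd_nat (orderOf_pow_dvd 3)
  · have := congrArg (fun t : Equiv.Perm _ => t P) hσ3
    simp only [Equiv.Perm.coe_one, id] at this
    rw [← map_pow, ← map_pow] at this
    exact this
  by_cases hc : c ∈ oddCore C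
  · exact Or.inl hc
  refine Or.inr ?_
  have hne : σ ≠ 1 := fun h => hc (mem_core_of_fix e hF hcom ho fun P => congrArg (fun t : Equiv.Perm _ => t P) h)
  haveI : Fact (Nat.Prime 3) := ⟨Nat.prime_three⟩
  have hfix : fx N 3 c = (σ.supportᶜ).card := by
    rw [fx, ← Nat.card_eq_finsetCard]
    refine Nat.card_congr (Equiv.subtypeEquivRight fun P => ?_)
    rw [Finset.mem_compl, Equiv.Perm.mem_support, not_not]
    exact Iff.rfl
  have ho3 := orderOf_eq_prime hσ3 hne
  obtain ⟨k, hk⟩ := Equiv.Perm.cycleType_prime_order (σ := σ) (by rw [ho3]; exact Nat.prime_three)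
  rw [ho3] at hk
  have hsum := σ.sum_cycleType
  rw [hk, Multiset.sum_replicate, smul_eq_mul] at hsum
  have hle := Finset.card_le_univ σ.support
  rw [hn4] at hle
  rw [hfix, Finset.card_compl, hn4]
  omega

/-- **An element of odd order commuting modulo the core with a two-point-or-no-point element is in the core.** -/
theorem mem_core_of_commute {c y : C} (ho : Odd (orderOf ((c : C ⧸ oddCore C))))
    (hfx : fx N 3 y = 0 ∨ fx N 3 y = 2)
    (hcomm : Commute ((c : C ⧸ oddCore C)) ((y : C ⧸ oddCore C))) : c ∈ oddCore C := by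
  classical
  refine (odd_facts e hF hcom ho).2.resolve_right fun h1 => ?_
  haveI : Fact (Nat.Prime 3) := ⟨Nat.prime_three⟩
  rw [fx, Nat.card_coe_set_eq, Set.ncard_eq_one] at h1
  obtain ⟨P, hP⟩ := h1
  have hact : act N c * act N y = act N y * act N c := by
    show MulAut.conjNormal (QuotientGroup.mk' (oddCore C) c) * MulAut.conjNormal (QuotientGroup.mk' (oddCore C) y) =
      MulAut.conjNormal (QuotientGroup.mk' (oddCore C) y) * MulAut.conjNormal (QuotientGroup.mk' (oddCore C) c)
    rw [← map_mul MulAut.conjNormal, ← map_mul MulAut.conjNormal, show QuotientGroup.mk' (oddCore C) c * QuotientGroup.mk' (oddCore C) y =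
      QuotientGroup.mk' (oddCore C) y * QuotientGroup.mk' (oddCore C) c from hcomm.eq]
  -- the fixed point of `c` is fixed by `y`
  have hyP : act N y • P = P := by
    have hcP : act N c • P = P := (Set.ext_iff.mp hP P).mpr rfl
    have : act N c • (act N y • P) = act N y • P := by rw [← mul_smul, hact, mul_smul, hcP]
    exact (Set.ext_iff.mp hP _).mp this
  rcases hfx with h0 | h2
  · rw [fx, Nat.card_coe_set_eq, Set.ncard_eq_zero] at h0
    exact (Set.ext_iff.mp h0 P).mp hyP
  -- `y` fixes one more point, moved to itself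
  rw [fx, Nat.card_coe_set_eq, Set.ncard_eq_two] at h2
  obtain ⟨a, b, hab, hs⟩ := h2
  have hmem : ∀ R, act N y • R = R ↔ R = a ∨ R = b := fun R => Set.ext_iff.mp hs R
  obtain ⟨Q, hQP, hQ, hall⟩ : ∃ Q, Q ≠ P ∧ act N y • Q = Q ∧ ∀ R, act N y • R = R → R = P ∨ R = Q := by
    rcases (hmem P).mp hyP with rfl | rfl
    · exact ⟨b, hab.symm, (hmem b).mpr (Or.inr rfl), fun R hR => (hmem R).mp hR⟩
    · exact ⟨a, hab, (hmem a).mpr (Or.inl rfl), fun R hR => ((hmem R).mp hR).symm⟩
  have h3 : act N y • (act N c • Q) = act N c • Q := by rw [← mul_smul, ← hact, mul_smul, hQ]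
  rcases hall _ h3 with h | h
  · exact hQP (smul_left_cancel _ (h.trans ((Set.ext_iff.mp hP P).mpr rfl).symm))
  · exact hQP ((Set.ext_iff.mp hP Q).mp h)

end Perm

end CfsgLib.QThree
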