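import Cfsg.Agent.Lib.RankTwoModel.Hyp
import Cfsg.Agent.Lib.QThree.Shape
import Cfsg.Agent.Lib.QThree.Section

/-!
`q = 3`: the core of the centraliser is balanced at every `2`-element, so a character of the principal block is
constant on the cosets `s O`.

Blueprint: `blueprint/RankTwo.md`, P10.
-/

set_option autoImplicit false
set_option linter.unusedSectionVars false
set_option linter.style.haveILetI false

namespace CfsgLib.QThree

open Cfsg CfsgLib.CharTheory CfsgLib.Blocks CfsgLib.RankTwoModel CfsgLib.BrauerOrder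

universe u

variable {G : Type u} [Group G] [Finite G] (h : Hyp G) {d : Frame G} (hd : d.Spec) (hq : d.q = 3)

include h hd hq

/-- An element of odd order of the centraliser commuting with a second involution is in the core. -/
theorem mem_core {c y : G} (hc : c ∈ Subgroup.centralizer ({d.z} : Set G)) (ho : Odd (orderOf c))
    (hy : orderOf y = 2) (hyz : Commute y d.z) (hne : y ≠ d.z) (hcy : Commute c y) :
    (⟨c, hc⟩ : ↥(Subgroup.centralizer ({d.z} : Set G))) ∈ oddCore ↥(Subgroup.centralizer ({d.z} : Set G)) := by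
  classical
  haveI := h.simple
  haveI : Fact (Nat.Prime 2) := ⟨Nat.prime_two⟩
  haveI : Fact (Nat.Prime 3) := ⟨Nat.prime_three⟩
  obtain ⟨D, hD⟩ : ∃ D : TwoData d.z, D.Spec d.U d.S := by
    rcases hd.qw with hS | hS
    · exact exists_twoData_qd h.noncomm d.S hS d.z hd.zord hd.zS hd.zc d.U hd.US hd.klein
    · exact exists_twoData_wreathed h.noncomm d.S hS d.z hd.zord hd.zS hd.zc d.U hd.US hd.klein (hd.Un hS)
  obtain ⟨e⟩ := hd.sl
  have hF : Fintype.card d.F = 3 := hd.card.trans hq
  set C := Subgroup.centralizer ({d.z} : Set G)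
  set yC : C := ⟨y, Subgroup.mem_centralizer_singleton_iff.mpr hyz.eq⟩ with hyC
  have hyo : orderOf yC = 2 := by rw [← Subgroup.orderOf_coe]; exact hy
  obtain ⟨T, hT⟩ := (IsPGroup.of_card (n := 1) (by rw [Nat.card_zpowers, hyo, pow_one]) :
    IsPGroup 2 (Subgroup.zpowers yC)).exists_le_sylow
  obtain ⟨g, hg⟩ := MulAction.exists_smul_eq C T D.L.S
  have hyS : g * yC * g⁻¹ ∈ (D.L.S : Subgroup C) := by
    rw [← hg]
    exact Subgroup.smul_mem_pointwise_smul yC (MulAut.conj g) _ (hT (Subgroup.mem_zpowers _))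
  have hyZ : g * yC * g⁻¹ ∉ D.L.Z := by
    intro hm
    have hsq : g * yC * g⁻¹ * (g * yC * g⁻¹) = 1 := by
      rw [show g * yC * g⁻¹ * (g * yC * g⁻¹) = g * (yC * yC) * g⁻¹ by group, ← pow_two, ← hyo, pow_orderOf_eq_one]
      group
    rcases hD.zonly _ hm hsq with h1 | h1
    · rw [conj_eq_one_iff] at h1
      rw [h1, orderOf_one] at hyo
      omega
    · have h2 : (g : G) * y * (g : G)⁻¹ = d.z := (congrArg Subtype.val h1).trans hD.zcv
      refine hne (mul_left_cancel (a := (g : G)) ?_)
      calc (g : G) * y = (g : G) * y * (g : G)⁻¹ * g := by group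
        _ = (g : G) * d.z := by rw [h2, Subgroup.mem_centralizer_singleton_iff.mp g.2]
  have hfx := Line.fx_cases (p := 3) hD.loc (show Fintype.card d.F = 3 ^ 1 by rw [hF, pow_one]) one_ne_zero
    (by rw [hF]; decide) e hyS hyZ
  rw [Line.fx_conj] at hfx
  refine mem_core_of_commute e hF (fun a b => ?_) (y := yC) ?_ hfx ?_
  · rw [← commutatorElement_def]
    exact Subgroup.commutator_mem_commutator (Subgroup.mem_top a) (Subgroup.mem_top b)
  · refine ho.of_dvd_nat ((orderOf_map_dvd (QuotientGroup.mk' (oddCore C)) ⟨c, hc⟩).trans (dvd_of_eq ?_))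
    rw [← Subgroup.orderOf_coe]
  · have hcc : Commute (⟨c, hc⟩ : C) yC := Subtype.ext hcy.eq
    exact hcc.map (QuotientGroup.mk' (oddCore C))

/-- The same at any pair of commuting involutions. -/
theorem mem_coreC {c t y : G} (hc : Commute c t) (ho : Odd (orderOf c)) (ht : orderOf t = 2) (hy : orderOf y = 2)
    (hyt : Commute y t) (hne : y ≠ t) (hcy : Commute c y) : c ∈ CfsgLib.GW.coreC t := by
  obtain ⟨g, hg⟩ := isConj_iff.mp (h.all_conj d.z t hd.zord ht)
  subst hg
  set φ := (MulAut.conj g).symm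
  have hφ : ∀ x, φ x = g⁻¹ * x * g := fun x => by simp [φ]
  have hz : φ (g * d.z * g⁻¹) = d.z := by rw [hφ]; group
  have hord : ∀ x, orderOf (φ x) = orderOf x := fun x => orderOf_injective φ.toMonoidHom φ.injective x
  have hc' : φ c ∈ Subgroup.centralizer ({d.z} : Set G) := Subgroup.mem_centralizer_singleton_iff.mpr (by
    rw [← hz]; exact (hc.map φ).eq)
  have hcore := mem_core h hd hq hc' ((hord c).symm ▸ ho) ((hord y).trans hy) (hz ▸ hyt.map φ)
    (fun e => hne (φ.injective (e.trans hz.symm))) (hcy.map φ)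
  -- transport the core back
  have hmap : (Subgroup.centralizer ({d.z} : Set G)).map (MulAut.conj g).toMonoidHom =
      Subgroup.centralizer ({g * d.z * g⁻¹} : Set G) := by
    ext x
    rw [Subgroup.mem_map_equiv, Subgroup.mem_centralizer_singleton_iff, Subgroup.mem_centralizer_singleton_iff]
    show φ x * d.z = d.z * φ x ↔ _
    rw [← hz, ← map_mul, ← map_mul, φ.injective.eq_iff, hz]
  set C := Subgroup.centralizer ({d.z} : Set G)
  set C' := Subgroup.centralizer ({g * d.z * g⁻¹} : Set G)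
  let E : C ≃* C' := ((MulAut.conj g).subgroupMap C).trans (MulEquiv.subgroupCongr hmap)
  haveI : ((oddCore C).map E.toMonoidHom).Normal :=
    (inferInstance : (oddCore C).Normal).map _ E.surjective
  have hle : (oddCore C).map E.toMonoidHom ≤ oddCore C' := CfsgLib.le_oddCore (by
    rw [Subgroup.card_map_of_injective E.injective]; exact CfsgLib.odd_card_oddCore)
  refine ⟨E ⟨φ c, hc'⟩, hle ⟨_, hcore, rfl⟩, ?_⟩
  show MulAut.conj g (φ c) = c
  exact MulEquiv.apply_symm_apply _ _

/-- **Balance at every `2`-element of the centraliser.** -/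
theorem balance {s : G} {k : ℕ} (hk : orderOf s = 2 ^ (k + 1)) (hs : s ∈ Subgroup.centralizer ({d.z} : Set G))
    {v : G} (hv : v ∈ d.O) (hsv : Commute s v) : v ∈ CfsgLib.GW.coreC s := by
  classical
  set Cs := Subgroup.centralizer ({s} : Set G) with hCs
  set y := s ^ 2 ^ k with hy
  have hyo : orderOf y = 2 := by
    rw [hy, orderOf_pow_of_dvd (by positivity) (hk ▸ Nat.pow_dvd_pow 2 (Nat.le_succ k)), hk, pow_succ,
      Nat.mul_div_cancel_left _ (by positivity)]
  have hsz : Commute s d.z := Subgroup.mem_centralizer_singleton_iff.mp hs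
  have hvC : v ∈ Subgroup.centralizer ({d.z} : Set G) := Subgroup.map_subtype_le _ hv
  have hvz : Commute v d.z := Subgroup.mem_centralizer_singleton_iff.mp hvC
  -- the core of the centraliser of the involution meets `C(s)` in an odd normal subgroup
  have key : v ∈ CfsgLib.GW.coreC y → v ∈ CfsgLib.GW.coreC s := by
    intro hvy
    have hle : ∀ x ∈ Cs, x ∈ Subgroup.centralizer ({y} : Set G) := fun x hx =>
      Subgroup.mem_centralizer_singleton_iff.mpr ((show Commute x s from
        Subgroup.mem_centralizer_singleton_iff.mp hx).pow_right _).eq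
    set O' := (CfsgLib.GW.coreC y).subgroupOf Cs
    haveI : O'.Normal := ⟨fun x hx a => by
      rw [Subgroup.mem_subgroupOf] at hx ⊢
      obtain ⟨w, hw, hwx⟩ := hx
      refine ⟨⟨(a : G), hle a a.2⟩ * w * ⟨(a : G), hle a a.2⟩⁻¹,
        (inferInstance : (oddCore ↥(Subgroup.centralizer ({y} : Set G))).Normal).conj_mem w hw _, ?_⟩
      show (a : G) * (w : G) * (a : G)⁻¹ = (a : G) * (x : G) * (a : G)⁻¹
      rw [show (w : G) = (x : G) from hwx]⟩
    have hodd : Odd (Nat.card O') := by
      refine Odd.of_dvd_nat ?_ (Subgroup.card_comap_dvd_of_injective (CfsgLib.GW.coreC y) Cs.subtype Cs.subtype_injective)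
      rw [CfsgLib.GW.coreC, Subgroup.card_map_of_injective (Subgroup.subtype_injective _)]
      exact CfsgLib.odd_card_oddCore
    exact ⟨⟨v, Subgroup.mem_centralizer_singleton_iff.mpr hsv.eq.symm⟩,
      CfsgLib.le_oddCore hodd (Subgroup.mem_subgroupOf.mpr hvy), rfl⟩
  refine key ?_
  by_cases hyz : y = d.z
  · rw [hyz]; exact hv
  refine mem_coreC h hd hq (hsv.symm.pow_right _) ?_ hyo hd.zord (hsz.pow_left _).symm (Ne.symm hyz) hvz
  have hodd : Odd (Nat.card d.O) := by
    rw [Frame.O, CfsgLib.GW.coreC, Subgroup.card_map_of_injective (Subgroup.subtype_injective _)]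
    exact CfsgLib.odd_card_oddCore
  exact hodd.of_dvd_nat (d.O.orderOf_dvd_natCard hv)

/-- **Principal block characters are constant on `s O`.** -/
theorem const_coset [Fintype G] {M : Ideal AlgInt} (hM : IsPModular 2 M) {χ : IrrCharacter G}
    (hχ : χ ∈ principalBlock M G) {s : G} (hs : s ∈ (d.S : Subgroup G)) (hs1 : s ≠ 1) {o : G} (ho : o ∈ d.O) :
    (χ : G → ℂ) (s * o) = (χ : G → ℂ) s := by
  obtain ⟨k, hk⟩ := IsPGroup.iff_orderOf.mp d.S.2 ⟨s, hs⟩
  rw [Subgroup.orderOf_mk] at hk
  obtain ⟨k, rfl⟩ : ∃ j, k = j + 1 := by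
    refine Nat.exists_eq_succ_of_ne_zero fun e => hs1 ?_
    rw [e, pow_zero] at hk
    exact orderOf_eq_one_iff.mp hk
  have hsC : s ∈ Subgroup.centralizer ({d.z} : Set G) := Subgroup.mem_centralizer_singleton_iff.mpr (hd.zc s hs)
  have hodd : Odd (Nat.card d.O) := by
    rw [Frame.O, CfsgLib.GW.coreC, Subgroup.card_map_of_injective (Subgroup.subtype_injective _)]
    exact CfsgLib.odd_card_oddCore
  refine const_on_coset hM hχ ⟨k + 1, hk⟩ hodd ?_ (fun v hv hsv => balance h hd hq hk hsC hv hsv) ho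
  rw [Subgroup.mem_normalizer_iff]
  have hconj : ∀ {c x : G}, c ∈ Subgroup.centralizer ({d.z} : Set G) → x ∈ d.O → c * x * c⁻¹ ∈ d.O := by
    rintro c x hc ⟨w, hw, rfl⟩
    exact ⟨⟨c, hc⟩ * w * ⟨c, hc⟩⁻¹, (inferInstance : (oddCore ↥(Subgroup.centralizer ({d.z} : Set G))).Normal).conj_mem
      w hw ⟨c, hc⟩, rfl⟩
  refine fun x => ⟨fun hx => hconj hsC hx, fun hx => ?_⟩
  have := hconj (inv_mem hsC) hx
  simpa [mul_assoc] using this

end CfsgLib.QThree
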