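import Cfsg.Agent.Lib.CharTheory.Linear

/-!
A character constant on the cosets `s O`, `s ≠ 1` in `S`, of a subgroup `O` normalised by `S`: its degree is the
dimension of the fixed space of `O` plus a multiple of `|S|`; so for a degree below `|S|` the subgroup is in the
kernel, and also for degree `|S|` if the value at a central involution of `S O` is not zero.

Blueprint: `blueprint/RankTwo.md`, P10.
-/

set_option autoImplicit false
set_option linter.unusedSectionVars false

namespace CfsgLib.QThree.CoreKernel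

open Cfsg CfsgLib.CharTheory
open scoped Pointwise

universe u

variable {G : Type u} [Group G] [Finite G] {n : ℕ} (ρ : Representation ℂ G (Fin n → ℂ))

/-- The fixed space of a subgroup. -/
noncomputable abbrev fix (H : Subgroup G) : Submodule ℂ (Fin n → ℂ) :=
  Representation.invariants (ρ.comp H.subtype)

theorem fix_anti {H K : Subgroup G} (h : H ≤ K) : fix ρ K ≤ fix ρ H := fun v hv x => hv ⟨x.1, h x.2⟩

theorem sum_eq (H : Subgroup G) [Fintype H] :
    ∑ h : H, ρ.character (h : G) = (Nat.card H : ℂ) * (Module.finrank ℂ (fix ρ H) : ℂ) := by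
  have hne : (Nat.card H : ℂ) ≠ 0 := Nat.cast_ne_zero.2 Nat.card_pos.ne'
  haveI : Invertible (Nat.card H : ℂ) := invertibleOfNonzero hne
  have h1 := Representation.card_inv_mul_sum_char_eq_finrank (ρ := ρ.comp H.subtype)
  rw [← h1, ← mul_assoc, mul_inv_cancel₀ hne, one_mul]
  rfl

open Classical in
theorem sum_sup (S O : Subgroup G) [Fintype S] [Fintype O] [Fintype ↥(S ⊔ O)]
    (hS : S ≤ Subgroup.normalizer (O : Set G)) (hd : S ⊓ O = ⊥) (f : G → ℂ) :
    ∑ g : ↥(S ⊔ O), f g = ∑ s : S, ∑ o : O, f ((s : G) * o) := by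
  rw [← Fintype.sum_prod_type']
  symm
  refine Fintype.sum_bijective (fun x : S × O => (⟨(x.1 : G) * x.2, mul_mem (Subgroup.mem_sup_left x.1.2)
    (Subgroup.mem_sup_right x.2.2)⟩ : ↥(S ⊔ O))) ⟨?_, ?_⟩ _ _ fun _ => rfl
  · exact fun a b e => Subgroup.mul_injective_of_disjoint (disjoint_iff.mpr hd) (congrArg Subtype.val e)
  · intro g
    have h : (g : G) ∈ (↑(S ⊔ O) : Set G) := g.2
    rw [Subgroup.coe_mul_of_left_le_normalizer_right _ _ hS] at h
    obtain ⟨s, hs, o, ho, e⟩ := h
    exact ⟨(⟨s, hs⟩, ⟨o, ho⟩), Subtype.ext e⟩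

theorem card_sup (S O : Subgroup G) (hS : S ≤ Subgroup.normalizer (O : Set G)) (hd : S ⊓ O = ⊥) :
    Nat.card ↥(S ⊔ O) = Nat.card S * Nat.card O := by
  rw [← Nat.card_prod]
  refine (Nat.card_congr (Equiv.ofBijective (fun x : S × O => (⟨(x.1 : G) * x.2, mul_mem (Subgroup.mem_sup_left x.1.2)
    (Subgroup.mem_sup_right x.2.2)⟩ : ↥(S ⊔ O))) ⟨?_, ?_⟩)).symm
  · exact fun a b e => Subgroup.mul_injective_of_disjoint (disjoint_iff.mpr hd) (congrArg Subtype.val e)
  · intro g
    have h : (g : G) ∈ (↑(S ⊔ O) : Set G) := g.2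
    rw [Subgroup.coe_mul_of_left_le_normalizer_right _ _ hS] at h
    obtain ⟨s, hs, o, ho, e⟩ := h
    exact ⟨(⟨s, hs⟩, ⟨o, ho⟩), Subtype.ext e⟩

/-- The relation between the three fixed spaces. -/
theorem key (S O : Subgroup G) (hS : S ≤ Subgroup.normalizer (O : Set G)) (hd : S ⊓ O = ⊥)
    (hc : ∀ s ∈ S, s ≠ 1 → ∀ o ∈ O, ρ.character (s * o) = ρ.character s) :
    Nat.card S * Module.finrank ℂ (fix ρ (S ⊔ O)) + n =
      Nat.card S * Module.finrank ℂ (fix ρ S) + Module.finrank ℂ (fix ρ O) := by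
  classical
  letI := Fintype.ofFinite S
  letI := Fintype.ofFinite O
  letI := Fintype.ofFinite ↥(S ⊔ O)
  have h1 := sum_eq ρ (S ⊔ O)
  rw [sum_sup S O hS hd, card_sup S O hS hd, ← Finset.add_sum_erase _ _ (Finset.mem_univ (1 : S)),
    Finset.sum_congr rfl fun (s : S) hs => show ∑ o : O, ρ.character ((s : G) * o) =
      (Nat.card O : ℂ) * ρ.character (s : G) by
      rw [Finset.sum_congr rfl fun (o : O) _ => hc s s.2 (fun e => (Finset.mem_erase.1 hs).1 (Subtype.ext e)) o o.2,
        Finset.sum_const, Finset.card_univ, nsmul_eq_mul, Nat.card_eq_fintype_card],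
    ← Finset.mul_sum] at h1
  simp only [OneMemClass.coe_one, one_mul] at h1
  have h2 := sum_eq ρ S
  rw [← Finset.add_sum_erase _ _ (Finset.mem_univ (1 : S)), OneMemClass.coe_one, ρ.char_one,
    Module.finrank_fintype_fun_eq_card, Fintype.card_fin] at h2
  rw [sum_eq ρ O] at h1
  have hO : (Nat.card O : ℂ) ≠ 0 := Nat.cast_ne_zero.2 Nat.card_pos.ne'
  apply Nat.cast_injective (R := ℂ)
  push_cast at h1 h2 ⊢
  refine mul_left_cancel₀ hO ?_
  linear_combination (Nat.card O : ℂ) * h2 - h1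

theorem eq_one_of_fix {H : Subgroup G} (h : Module.finrank ℂ (fix ρ H) = n) {x : G} (hx : x ∈ H) : ρ x = 1 := by
  have htop : fix ρ H = ⊤ := Submodule.eq_top_of_finrank_eq (by rw [h, Module.finrank_fintype_fun_eq_card,
    Fintype.card_fin])
  refine LinearMap.ext fun v => ?_
  exact (show v ∈ fix ρ H from htop ▸ Submodule.mem_top) ⟨x, hx⟩

end CfsgLib.QThree.CoreKernel

namespace CfsgLib.QThree

open Cfsg CfsgLib.CharTheory CoreKernel

universe u

variable {G : Type u} [Group G] [Finite G]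

/-- **A small character kills the subgroup.** -/
theorem core_le_kernel {χ : G → ℂ} (hχ : IsCharacter G χ) {d : ℕ} (hd1 : χ 1 = (d : ℂ)) (S O : Subgroup G)
    (hS : S ≤ Subgroup.normalizer (O : Set G)) (hdis : S ⊓ O = ⊥)
    (hc : ∀ s ∈ S, s ≠ 1 → ∀ o ∈ O, χ (s * o) = χ s)
    (hd : d < Nat.card S ∨ d = Nat.card S ∧ ∃ z ∈ S, z * z = 1 ∧ z ≠ 1 ∧ χ z ≠ 0) :
    ∀ o ∈ O, χ o = χ 1 := by
  classical
  obtain ⟨n, ρ, rfl⟩ := hχ
  have hn : n = d := by
    apply Nat.cast_injective (R := ℂ)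
    rw [← hd1, ρ.char_one, Module.finrank_fintype_fun_eq_card, Fintype.card_fin]
  subst hn
  have hk := key ρ S O hS hdis hc
  have hcle : Module.finrank ℂ (fix ρ O) ≤ n := by
    have := Submodule.finrank_le (fix ρ O)
    rwa [Module.finrank_fintype_fun_eq_card, Fintype.card_fin] at this
  intro o ho
  suffices h : Module.finrank ℂ (fix ρ O) = n by
    show ρ.character o = ρ.character 1
    simp only [Representation.character, eq_one_of_fix ρ h ho, MonoidHom.map_one]
  rcases hd with hlt | ⟨heq, z, hz, hz2, hz1, hne⟩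
  · obtain ⟨t, ht⟩ : Nat.card S ∣ n - Module.finrank ℂ (fix ρ O) :=
      ⟨Module.finrank ℂ (fix ρ S) - Module.finrank ℂ (fix ρ (S ⊔ O)), by rw [Nat.mul_sub]; omega⟩
    rcases Nat.eq_zero_or_pos t with rfl | ht0
    · rw [mul_zero] at ht; omega
    · have := Nat.le_mul_of_pos_right (Nat.card S) ht0; omega
  · by_contra hne'
    obtain ⟨t, ht⟩ : Nat.card S ∣ n - Module.finrank ℂ (fix ρ O) :=
      ⟨Module.finrank ℂ (fix ρ S) - Module.finrank ℂ (fix ρ (S ⊔ O)), by rw [Nat.mul_sub]; omega⟩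
    have h0 : Module.finrank ℂ (fix ρ O) = 0 := by
      rcases Nat.eq_zero_or_pos t with rfl | ht0
      · rw [mul_zero] at ht; omega
      · have := Nat.le_mul_of_pos_right (Nat.card S) ht0; omega
    -- the involution
    have hzle : Subgroup.zpowers z ≤ S := Subgroup.zpowers_le.mpr hz
    have h0' : Module.finrank ℂ (fix ρ (Subgroup.zpowers z ⊔ O)) = 0 :=
      Nat.le_zero.mp (h0 ▸ Submodule.finrank_mono (fix_anti ρ le_sup_right))
    have hk2 := key ρ (Subgroup.zpowers z) O (hzle.trans hS) (le_bot_iff.mp (hdis ▸ inf_le_inf_right O hzle))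
      fun s hs => hc s (hzle hs)
    have hoz : orderOf z = 2 := orderOf_eq_prime (by rw [pow_two]; exact hz2) hz1
    rw [Nat.card_zpowers, hoz, h0, h0'] at hk2
    -- the value at the involution is twice the fixed dimension minus the degree
    letI := Fintype.ofFinite (Subgroup.zpowers z)
    have h2 := sum_eq ρ (Subgroup.zpowers z)
    rw [Nat.card_zpowers, hoz] at h2
    have hu : (Finset.univ : Finset (Subgroup.zpowers z)) = {1, ⟨z, Subgroup.mem_zpowers z⟩} := by
      refine (Finset.eq_univ_of_card _ ?_).symm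
      rw [Finset.card_pair (fun e => hz1 (congrArg Subtype.val e).symm), ← Nat.card_eq_fintype_card,
        Nat.card_zpowers, hoz]
    rw [hu, Finset.sum_pair (fun e => hz1 (congrArg Subtype.val e).symm), OneMemClass.coe_one, hd1] at h2
    refine hne ?_
    have hk2' : ((2 * 0 + n : ℕ) : ℂ) = ((2 * Module.finrank ℂ (fix ρ (Subgroup.zpowers z)) + 0 : ℕ) : ℂ) :=
      congrArg Nat.cast hk2
    push_cast at hk2' h2
    linear_combination h2 - hk2'

end CfsgLib.QThree
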