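import Cfsg.Agent.Lib.QThree.Balance
import Cfsg.Agent.Lib.QThree.CoreKernel
import Cfsg.Agent.Lib.BrauerOrder.Main

/-!
`q = 3`: a character of the principal block of degree at most the order of the Sylow `2`-subgroup exists, so the core of
the centraliser is trivial.

Blueprint: `blueprint/RankTwo.md`, P10.
-/

set_option autoImplicit false
set_option linter.unusedSectionVars false
set_option linter.style.haveILetI false

namespace CfsgLib.QThree

open Cfsg CfsgLib.CharTheory CfsgLib.Blocks CfsgLib.BrauerOrder CfsgLib.RankTwoModel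

universe u v

section Degrees

variable {G : Type u} [Group G] [Fintype G] [IsSimpleGroup G] {z : G} [Fintype (Cz z)] {Ω : Type v}
  [MulAction (Cz z) Ω] [Finite Ω] {D : Sys G z} (hD : D.Spec Ω) {M : Ideal AlgInt} {e : Fin 6 → G → ℂ}
  (hgen : ∀ (b : Bool) (τ : ↥(D.core.T b) →* ℂˣ), IsGeneralizedCharacter (Cz z) (D.core.R Ω b τ))
  (he : D.Six Ω M e) (hM : IsPModular 2 M)

include hD hgen he hM

/-- A signed character of small degree with nonzero value at the involution. -/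
theorem small_degree (hq : D.core.q = 3) :
    ∃ i : Fin 6, i ≠ 0 ∧ ∃ n : ℤ, e i 1 = (n : ℂ) ∧ |n| ≤ 16 ∧ e i z ≠ 0 := by
  obtain ⟨hC3, hY2, hcase⟩ := values hD hgen he hM
  obtain ⟨q1, q2, q3⟩ := class_equations hD hgen he
  obtain ⟨B, C, hB, hC, hA, hY, hF, nB, nC, nA, nY, nF, -⟩ := signed_degrees hD hgen he
  have hQ3 : D.Q = 3 ∨ D.Q = -3 := by
    rcases hD.core.sgn true with e' | e' <;> rw [Sys.Q, e', hq] <;> simp
  have hz1 : z ≠ 1 := fun h => by have := hD.zord; rw [h, orderOf_one] at this; omega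
  have hk : ∀ i, i ≠ 0 → e i z ≠ e i 1 := fun i hi => no_kernel (he.signed i) (by
    rw [← he.zero, he.orth, if_neg hi]) hz1
  obtain ⟨hQ, hQ1, hQm⟩ := Q_facts hD
  have mA : (1 : ℚ) - B ≠ 0 := by exact_mod_cast nA
  have mB : (B : ℚ) ≠ 0 := by exact_mod_cast nB
  have mC : (C : ℚ) ≠ 0 := by exact_mod_cast nC
  have mY : (-1 : ℚ) - C ≠ 0 := by exact_mod_cast nY
  have mF : (B : ℚ) - 1 - C ≠ 0 := by exact_mod_cast nF
  set K : ℚ := (Nat.card (Cz z) : ℚ) ^ 3 /
    ((Nat.card G : ℚ) * (Nat.card (Subgroup.centralizer ({(D.w : G), z} : Set G)) : ℚ) ^ 2) with hK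
  rcases hcase with ⟨-, hδ, a1, a2, a5⟩ | ⟨-, hδ, hv⟩
  · -- central part of order two
    rw [hδ, hA, a1, a2, hB, kappa_cast hD] at q1
    rw [hδ, hA, hC, hF, a1, hC3, a5, kappa_cast hD] at q3
    have E1 : (-1 : ℚ) + ((D.Q : ℚ) + 1) ^ 2 / (1 - B) + (D.Q : ℚ) ^ 2 / B = K * (-1 - 1 / (D.Q : ℚ)) := by
      apply Rat.cast_injective (α := ℂ)
      push_cast
      linear_combination q1
    have E3 : ((D.Q : ℚ) + 1) ^ 2 / (1 - B) + (D.Q : ℚ) ^ 2 / C + 1 / (B - 1 - C) =
        K * (-1 - 1 / (D.Q : ℚ)) := by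
      apply Rat.cast_injective (α := ℂ)
      push_cast
      linear_combination q3
    have hne : (C : ℚ) ≠ B := by
      intro h
      refine hk 5 (by decide) ?_
      rw [a5, hF, show (C : ℂ) = ((C : ℚ) : ℂ) by norm_cast, h]
      push_cast; ring
    obtain ⟨r1, -⟩ := BrauerOrder.Arith.qd_key hQ mA mB mC mF hne E1 E3
    have r : C * (9 - B) = 9 * (B - 1) := by
      rcases hQ3 with e' | e' <;> rw [e'] at r1 <;> push_cast at r1 <;>
        exact_mod_cast (show (C : ℚ) * (9 - B) = 9 * (B - 1) by linarith)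
    have hsmall : |B| ≤ 16 ∨ |1 - B| ≤ 16 ∨ |C| ≤ 16 ∨ |-1 - C| ≤ 16 := by
      by_contra hno
      push Not at hno
      obtain ⟨h1, h2, h3, h4⟩ := hno
      rw [lt_abs] at h1 h2 h3 h4
      rcases h1 with hB' | hB'
      · rcases h3 with hC' | hC'
        · nlinarith
        · rcases h4 with h4' | h4'
          · rcases h2 with h2' | h2' <;> nlinarith
          · omega
      · rcases h3 with hC' | hC' <;> nlinarith
    rcases hsmall with h | h | h | h
    · refine ⟨2, by decide, B, hB, h, ?_⟩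
      rw [a2]; exact_mod_cast (show -D.Q ≠ 0 by omega)
    · refine ⟨1, by decide, 1 - B, by rw [hA]; push_cast; rfl, h, ?_⟩
      rw [a1]; exact_mod_cast (show -(D.Q + 1) ≠ 0 by omega)
    · refine ⟨3, by decide, C, hC, h, ?_⟩
      rw [hC3]; exact_mod_cast (show -D.Q ≠ 0 by omega)
    · refine ⟨4, by decide, -1 - C, by rw [hY]; push_cast; rfl, h, fun h0 => ?_⟩
      rw [h0] at hY2
      have : ((D.Q - 1) ^ 2 : ℤ) = 0 := by exact_mod_cast (show ((D.Q : ℂ) - 1) ^ 2 = 0 by rw [← hY2]; ring)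
      rw [pow_eq_zero_iff two_ne_zero] at this
      omega
  · -- central part of order at least four: `B = Q² + Q + 1`
    rw [hY2, hC3, kappa_cast hD] at q2
    rw [hδ] at q1 q3
    rw [hA, kappa_cast hD] at q1 q3
    rw [hB] at q1
    rw [hC] at q3
    rw [hY, hC] at q2
    rw [hC3, hF] at q3
    have E2 : (1 : ℚ) + ((D.Q : ℚ) - 1) ^ 2 / (-1 - C) + (D.Q : ℚ) ^ 2 / C = K * (1 - 1 / (D.Q : ℚ)) := by
      apply Rat.cast_injective (α := ℂ)
      push_cast
      linear_combination q2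
    rcases hv with ⟨a1, a2, a5⟩ | ⟨a1, a2, a5⟩
    · rw [a1, a2] at q1
      rw [a1, a5] at q3
      have E1 : (-1 : ℚ) + ((D.Q : ℚ) + 1) ^ 2 / (1 - B) + ((D.Q : ℚ) + 2) ^ 2 / B =
          K * (4 / ((D.Q : ℚ) + 1) - 1 - 1 / (D.Q : ℚ)) := by
        apply Rat.cast_injective (α := ℂ)
        push_cast
        linear_combination q1
      have E3 : ((D.Q : ℚ) + 1) ^ 2 / (1 - B) + (D.Q : ℚ) ^ 2 / C + (2 * (D.Q : ℚ) + 1) ^ 2 / (B - 1 - C) =
          K * (4 / ((D.Q : ℚ) + 1) - 1 - 1 / (D.Q : ℚ)) := by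
        apply Rat.cast_injective (α := ℂ)
        push_cast
        linear_combination q3
      have hker : (B : ℚ) ≠ (D.Q : ℚ) + 2 := by
        intro h
        refine hk 2 (by decide) ?_
        rw [a2, hB, show (B : ℂ) = ((B : ℚ) : ℂ) by norm_cast, h]
        push_cast; ring
      obtain ⟨r1, -⟩ := BrauerOrder.Arith.wreathed_normal hQ hQ1 hQm mA mB mC mY mF hker E1 E2 E3
      have r : B = D.Q ^ 2 + D.Q + 1 := by exact_mod_cast r1
      refine ⟨2, by decide, B, hB, ?_, ?_⟩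
      · rcases hQ3 with e' | e' <;> rw [r, e'] <;> norm_num
      · rw [a2]; exact_mod_cast (show D.Q + 2 ≠ 0 by omega)
    · rw [a1, a2] at q1
      rw [a1, a5] at q3
      have E1 : (-1 : ℚ) + ((D.Q : ℚ) + 1) ^ 2 / (1 - B) + (D.Q : ℚ) ^ 2 / B =
          K * (4 / ((D.Q : ℚ) + 1) - 1 - 1 / (D.Q : ℚ)) := by
        apply Rat.cast_injective (α := ℂ)
        push_cast
        linear_combination q1
      have E3 : ((D.Q : ℚ) + 1) ^ 2 / (1 - B) + (D.Q : ℚ) ^ 2 / C + 1 / (B - 1 - C) =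
          K * (4 / ((D.Q : ℚ) + 1) - 1 - 1 / (D.Q : ℚ)) := by
        apply Rat.cast_injective (α := ℂ)
        push_cast
        linear_combination q3
      have hker : (B : ℚ) ≠ -(D.Q : ℚ) := by
        intro h
        refine hk 2 (by decide) ?_
        rw [a2, hB, show (B : ℂ) = ((B : ℚ) : ℂ) by norm_cast, h]
        push_cast; ring
      exact (BrauerOrder.Arith.wreathed_alt hQ hQ1 hQm mA mB mC mY mF hker E1 E2 E3).elim

end Degrees

/-- The Sylow subgroup has order at least sixteen. -/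
theorem sixteen_le {C : Type u} [Group C] [Finite C] {Ω : Type v} [MulAction C Ω] {d : Core C} (hd : d.Spec Ω)
    {lam : C →* ℂˣ} {b : Bool} {x : C} {k : ℕ} (hr : d.Rot lam b x k) (hq : d.q = 3) (hZ : 2 ≤ Nat.card d.Z) :
    16 ≤ Nat.card (d.S : Subgroup C) := by
  have he := hr.exact
  rw [hq, show (3 : ℕ) ^ 2 - 1 = 2 ^ 3 by norm_num, padicValNat.prime_pow] at he
  omega

variable {G : Type u} [Group G] [Finite G] (h : Hyp G) {d : Frame G} (hd : d.Spec) (hq : d.q = 3)

include h hd hq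

/-- **`q = 3`: the core is trivial.** -/
theorem core_eq_bot : d.O = ⊥ := by
  classical
  haveI := h.simple
  haveI : Fact (Nat.Prime 2) := ⟨Nat.prime_two⟩
  letI := Fintype.ofFinite G
  letI : Fintype ↥(Subgroup.centralizer ({d.z} : Set G)) := Fintype.ofFinite _
  obtain ⟨Ω, _, D, hD, hDq, -, hv2, hZ⟩ := hd.exists_sys h
  haveI : Finite Ω := Nat.finite_of_card_ne_zero (by rw [hD.core.card]; omega)
  obtain ⟨M, hM⟩ := exists_isPModular Nat.prime_two
  have hgen := hgen_all hD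
  obtain ⟨e, he⟩ := exists_six hD hgen (M := M) hM
  obtain ⟨i, hi, n, hn, hn16, hnz⟩ := small_degree hD hgen he hM (hDq.trans hq)
  obtain ⟨χ, hχ, hsgn⟩ := he.inB0 i
  obtain ⟨b, x, k, hr⟩ := hD.rot
  -- the order of the Sylow subgroup
  have h16 : 16 ≤ Nat.card (d.S : Subgroup G) := by
    have hSC : Nat.card (d.S : Subgroup G) = Nat.card (D.core.S : Subgroup ↥(Subgroup.centralizer ({d.z} : Set G))) := by
      rw [d.S.card_eq_multiplicity, D.core.S.card_eq_multiplicity, Nat.factorization_def _ Nat.prime_two,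
        Nat.factorization_def _ Nat.prime_two, hv2]
    rw [hSC]
    refine sixteen_le hD.core hr (hDq.trans hq) ?_
    rcases hZ with ⟨-, h2⟩ | ⟨-, h4⟩ <;> omega
  -- the degree and the value of the character
  have hdeg := (charDegree_spec' χ.2).1
  have hn' : (charDegree (χ : G → ℂ) : ℤ) = |n| := by
    have hor : (n : ℂ) = (charDegree (χ : G → ℂ) : ℂ) ∨ (n : ℂ) = -(charDegree (χ : G → ℂ) : ℂ) := by
      rcases hsgn with e' | e' <;> rw [e'] at hn
      · exact Or.inl (hn.symm.trans hdeg)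
      · exact Or.inr (by rw [← hn, Pi.neg_apply, hdeg])
    rcases hor with e' | e'
    · rw [show n = (charDegree (χ : G → ℂ) : ℤ) by exact_mod_cast e', Nat.abs_cast]
    · rw [show n = -(charDegree (χ : G → ℂ) : ℤ) by exact_mod_cast e', abs_neg, Nat.abs_cast]
  have hχz : (χ : G → ℂ) d.z ≠ 0 := fun h0 => hnz (by rcases hsgn with e' | e' <;> simp [e', h0])
  have hodd : Odd (Nat.card d.O) := by
    rw [Frame.O, CfsgLib.GW.coreC, Subgroup.card_map_of_injective (Subgroup.subtype_injective _)]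
    exact CfsgLib.odd_card_oddCore
  have hnorm : (d.S : Subgroup G) ≤ Subgroup.normalizer (d.O : Set G) := fun s hs => by
    have hsC : s ∈ Subgroup.centralizer ({d.z} : Set G) := Subgroup.mem_centralizer_singleton_iff.mpr (hd.zc s hs)
    have hconj : ∀ {c x : G}, c ∈ Subgroup.centralizer ({d.z} : Set G) → x ∈ d.O → c * x * c⁻¹ ∈ d.O := by
      rintro c x hc ⟨w, hw, rfl⟩
      exact ⟨⟨c, hc⟩ * w * ⟨c, hc⟩⁻¹, (inferInstance : (oddCore ↥(Subgroup.centralizer ({d.z} : Set G))).Normal).conj_mem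
        w hw ⟨c, hc⟩, rfl⟩
    rw [Subgroup.mem_normalizer_iff]
    refine fun x => ⟨fun hx => hconj hsC hx, fun hx => ?_⟩
    have := hconj (inv_mem hsC) hx
    simpa [mul_assoc] using this
  have hdis : (d.S : Subgroup G) ⊓ d.O = ⊥ := by
    refine Subgroup.inf_eq_bot_of_coprime ?_
    obtain ⟨j, hj⟩ := d.S.2.exists_card_eq
    rw [hj]
    exact (Nat.coprime_two_left.mpr hodd).pow_left j
  have hker : ∀ o ∈ d.O, (χ : G → ℂ) o = (χ : G → ℂ) 1 := by
    refine core_le_kernel (isCharacter_of_irr χ.2) hdeg _ _ hnorm hdis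
      (fun s hs hs1 o ho => const_coset h hd hq hM hχ hs hs1 ho) ?_
    rcases Nat.lt_or_ge (charDegree (χ : G → ℂ)) (Nat.card (d.S : Subgroup G)) with hlt | hge
    · exact Or.inl hlt
    · refine Or.inr ⟨by omega, d.z, hd.zS, ?_, ?_, hχz⟩
      · rw [← pow_two, ← hd.zord, pow_orderOf_eq_one]
      · intro e'
        have := hd.zord
        rw [e', orderOf_one] at this
        omega
  rw [Subgroup.eq_bot_iff_forall]
  intro o ho
  by_contra ho1
  refine no_kernel (he.signed i) (by rw [← he.zero, he.orth, if_neg hi]) ho1 ?_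
  rcases hsgn with e' | e' <;> rw [e']
  · exact hker o ho
  · rw [Pi.neg_apply, Pi.neg_apply, hker o ho]

end CfsgLib.QThree
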