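import Cfsg.Agent.Lib.BinaryOctahedralTame
import Cfsg.Agent.Lib.U3Cent.Iso
import Cfsg.Agent.Lib.SLCard
import Mathlib.FieldTheory.Finite.GaloisField

/-!
A group of order `96` made of `SL(2,3)` and an element `t` acting as the outer automorphism, with `t ^ 4 = -1` and
`t ^ 2` outside, is unique; so it is `GU(2,3)`.

Blueprint: `blueprint/RankTwo.md`, P10.
-/

set_option autoImplicit false

namespace CfsgLib.QThree.GU

open Matrix CfsgLib.GLTwoThreeExt
open CfsgLib.QuatSection (SL23)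

universe u v

/-- The diagonal matrix of determinant `-1`. -/
def dgm : M23 := !![1, 0; 0, -1]

theorem det_flip (s : SL23) : (dgm * (s : M23) * dgm).det = 1 := by
  rw [det_mul, det_mul, s.2, show dgm.det = -1 by decide +kernel]
  decide

/-- The outer automorphism. -/
def flip' (s : SL23) : SL23 := ⟨dgm * (s : M23) * dgm, det_flip s⟩

theorem flip_entries : ∀ s : SL23, (flip' s : M23) 0 0 = (s : M23) 0 0 ∧ (flip' s : M23) 0 1 = -(s : M23) 0 1 ∧
    (flip' s : M23) 1 0 = -(s : M23) 1 0 ∧ (flip' s : M23) 1 1 = (s : M23) 1 1 := by decide +kernel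

theorem sq_ne_neg_one : ∀ x : ZMod 3, x * x ≠ -1 := by decide

/-- The data. -/
structure Data (X : Type u) [Group X] where
  θ : SL23 →* X
  t : X
  inj : Function.Injective θ
  conj : ∀ s, t * θ s = θ (flip' s) * t
  four : t ^ 4 = θ (-1)
  sq : t ^ 2 ∉ θ.range
  card : Nat.card X = 96

/-- The multiplication in normal form. -/
def mu (a b : SL23 × Fin 4) : SL23 × Fin 4 :=
  (a.1 * (flip'^[a.2.val] b.1) * (if 4 ≤ a.2.val + b.2.val then -1 else 1), a.2 + b.2)

namespace Data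

variable {X : Type u} [Group X] (d : Data X)

/-- The normal form. -/
def nf (a : SL23 × Fin 4) : X := d.θ a.1 * d.t ^ a.2.val

theorem pow_conj (i : ℕ) : ∀ s, d.t ^ i * d.θ s = d.θ (flip'^[i] s) * d.t ^ i := by
  induction i with
  | zero => intro s; simp
  | succ i ih =>
    intro s
    rw [pow_succ, mul_assoc, d.conj, ← mul_assoc, ih, Function.iterate_succ_apply, mul_assoc]

theorem nf_mul (a b : SL23 × Fin 4) : d.nf a * d.nf b = d.nf (mu a b) := by
  obtain ⟨s, i⟩ := a
  obtain ⟨r, j⟩ := b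
  show d.θ s * d.t ^ i.val * (d.θ r * d.t ^ j.val) = d.θ (s * flip'^[i.val] r * _) * d.t ^ (i + j).val
  rw [map_mul, map_mul, mul_assoc (d.θ s), ← mul_assoc (d.t ^ i.val), d.pow_conj, mul_assoc _ (d.t ^ i.val),
    ← pow_add, ← mul_assoc, mul_assoc _ (d.θ (ite _ _ _))]
  congr 1
  have hi := i.isLt
  have hj := j.isLt
  rw [Fin.val_add]
  by_cases h : 4 ≤ i.val + j.val
  · rw [if_pos h, ← d.four, ← pow_add]
    congr 1
    omega
  · rw [if_neg h, map_one, one_mul]
    congr 1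
    omega

theorem eq_zero_of_pow_mem {k : ℕ} (hk : k < 4) (h : d.t ^ k ∈ d.θ.range) : k = 0 := by
  by_contra h0
  refine d.sq ?_
  obtain rfl | rfl | rfl : k = 1 ∨ k = 2 ∨ k = 3 := by omega
  · rw [pow_one] at h
    exact pow_mem h 2
  · exact h
  · have h4 : d.t ^ 4 ∈ d.θ.range := ⟨-1, d.four.symm⟩
    have h6 := mul_mem (pow_mem h 2) (inv_mem h4)
    rwa [← pow_mul, show d.t ^ (3 * 2) = d.t ^ 2 * d.t ^ 4 by rw [← pow_add], mul_inv_cancel_right] at h6

theorem nf_inj : Function.Injective d.nf := by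
  have hle : ∀ a b : SL23 × Fin 4, a.2.val ≤ b.2.val → d.nf a = d.nf b → a = b := by
    intro a b h e
    obtain ⟨k, hk⟩ := Nat.exists_eq_add_of_le h
    change d.θ a.1 * d.t ^ a.2.val = d.θ b.1 * d.t ^ b.2.val at e
    rw [hk, add_comm, pow_add, ← mul_assoc] at e
    have e' := mul_right_cancel e
    have h2 : d.t ^ k ∈ d.θ.range := ⟨b.1⁻¹ * a.1, by rw [map_mul, map_inv, e', inv_mul_cancel_left]⟩
    have hk0 := d.eq_zero_of_pow_mem (by have := b.2.isLt; omega) h2
    rw [hk0, pow_zero, mul_one] at e'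
    exact Prod.ext (d.inj e') (Fin.ext (by omega))
  intro a b e
  rcases le_total a.2.val b.2.val with h | h
  · exact hle a b h e
  · exact (hle b a h e.symm).symm

theorem card_sl : Nat.card SL23 = 24 := by
  haveI : Fact (Nat.Prime 3) := ⟨Nat.prime_three⟩
  rw [CfsgLib.SLCard.card_SL_two, ZMod.card]
  norm_num

theorem nf_bij : Function.Bijective d.nf := by
  haveI : Finite X := Nat.finite_of_card_ne_zero (by rw [d.card]; norm_num)
  rw [Nat.bijective_iff_injective_and_card]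
  refine ⟨d.nf_inj, ?_⟩
  rw [Nat.card_prod, card_sl, Nat.card_fin, d.card]

include d in
/-- Uniqueness. -/
theorem nonempty_equiv {Y : Type v} [Group Y] (d' : Data Y) : Nonempty (X ≃* Y) := by
  let g := Equiv.ofBijective _ d.nf_bij
  let g' := Equiv.ofBijective _ d'.nf_bij
  refine ⟨MulEquiv.mk (g.symm.trans g') fun x y => ?_⟩
  show g' (g.symm (x * y)) = g' (g.symm x) * g' (g.symm y)
  conv_lhs => rw [← g.apply_symm_apply x, ← g.apply_symm_apply y]
  show g' (g.symm (d.nf (g.symm x) * d.nf (g.symm y))) = d'.nf (g.symm x) * d'.nf (g.symm y)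
  rw [d.nf_mul, d'.nf_mul, show d.nf (mu (g.symm x) (g.symm y)) = g (mu (g.symm x) (g.symm y)) from rfl,
    g.symm_apply_apply]
  rfl

end Data

section Model

open CfsgLib.U3Cent CfsgLib.PSUBorel

variable {F : Type} [Field F] [Fintype F] (c : Conj F)

/-- The model. -/
theorem exists_data (hq : c.q = 3) : Nonempty (Data (W c)) := by
  classical
  haveI : Fact (Nat.Prime 3) := ⟨Nat.prime_three⟩
  have h9 : Fintype.card F = 9 := by rw [c.card, hq]; norm_num
  haveI : CharP F 3 := charP_of_card_eq_prime_pow (f := 2) (by rw [h9]; norm_num)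
  obtain ⟨a, ha⟩ := IsCyclic.exists_ofOrder_eq_natCard (α := Fˣ)
  rw [Nat.card_units, Nat.card_eq_fintype_card, h9] at ha
  set ι : ZMod 3 →+* F := ZMod.castHom (dvd_refl 3) F with hι
  have hιf : ∀ x, c.σ (ι x) = ι x := fun x => congrArg (fun f : ZMod 3 →+* F => f x) (Subsingleton.elim (c.σ.comp ι) ι)
  have ha8 : (a : F) ^ 8 = 1 := by
    rw [← Units.val_pow_eq_pow_val, show a ^ 8 = 1 by rw [show (8 : ℕ) = 9 - 1 by norm_num, ← ha, pow_orderOf_eq_one],
      Units.val_one]
  have ha4 : (a : F) ^ 4 = -1 := by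
    have h1 : ((a : F) ^ 4) * ((a : F) ^ 4) = 1 := by rw [← pow_add]; exact ha8
    refine ((mul_self_eq_one_iff).mp h1).resolve_left fun h => ?_
    have h2 : orderOf a ∣ 4 := orderOf_dvd_of_pow_eq_one (Units.ext (by simpa using h))
    rw [ha] at h2
    exact absurd h2 (by decide)
  have hne : (a : F) ≠ 0 := a.ne_zero
  set δ : F := (a : F) ^ 2 with hδ
  have hδ0 : δ ≠ 0 := pow_ne_zero _ hne
  have hσa : c.σ (a : F) = (a : F) ^ 3 := by rw [c.hσ, hq]
  have hσδ : c.σ δ = -δ := by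
    rw [hδ, map_pow, hσa, ← pow_mul, show (a : F) ^ (3 * 2) = (a : F) ^ 2 * (a : F) ^ 4 by rw [← pow_add], ha4,
      mul_neg, mul_one]
  have hδδ : δ * δ = -1 := by rw [hδ, ← pow_add, ha4]
  have hdet : ∀ s : SL23, ι ((s : M23) 0 0) * ι ((s : M23) 1 1) - ι ((s : M23) 0 1) * ι ((s : M23) 1 0) = 1 := by
    intro s
    rw [← map_mul, ← map_mul, ← map_sub, show (s : M23) 0 0 * (s : M23) 1 1 - (s : M23) 0 1 * (s : M23) 1 0 = 1 from
      (Matrix.det_fin_two _).symm.trans s.2, map_one]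
  let f : SL23 → W c := fun s =>
    mk (ι ((s : M23) 0 0)) (ι ((s : M23) 0 1) * δ) (ι ((s : M23) 1 0) * δ⁻¹) (ι ((s : M23) 1 1))
      (by rw [map_mul, hιf, hιf, hσδ]; ring)
      (by rw [map_mul, map_inv₀, hιf, hιf, hσδ]; field_simp; linear_combination hdet s)
      (by rw [map_mul, map_inv₀, hιf, hιf, hσδ, inv_neg]; ring)
  have hmul : ∀ s r, f (s * r) = f s * f r := by
    intro s r
    ext <;> simp [f, ent_mul, Matrix.mul_apply, Fin.sum_univ_two, map_add, map_mul] <;> field_simp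
  let θ : SL23 →* W c := MonoidHom.mk' f hmul
  have hθ : ∀ s, θ s = f s := fun _ => rfl
  have hinj : Function.Injective θ := by
    intro s r h
    have i := RingHom.injective ι
    have e00 : ι ((s : M23) 0 0) = ι ((r : M23) 0 0) := congrArg (fun g => ent g 0 0) h
    have e01 : ι ((s : M23) 0 1) * δ = ι ((r : M23) 0 1) * δ := congrArg (fun g => ent g 0 1) h
    have e10 : ι ((s : M23) 1 0) * δ⁻¹ = ι ((r : M23) 1 0) * δ⁻¹ := congrArg (fun g => ent g 1 0) h
    have e11 : ι ((s : M23) 1 1) = ι ((r : M23) 1 1) := congrArg (fun g => ent g 1 1) h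
    refine Subtype.ext ?_
    ext x y
    fin_cases x <;> fin_cases y
    exacts [i e00, i (mul_right_cancel₀ hδ0 e01), i (mul_right_cancel₀ (inv_ne_zero hδ0) e10), i e11]
  refine ⟨⟨θ, dg a, hinj, fun s => ?_, ?_, ?_, ?_⟩⟩
  · obtain ⟨e00, e01, e10, e11⟩ := flip_entries s
    rw [hθ, hθ]
    have h3 : (a : F) ^ 3 ≠ 0 := pow_ne_zero _ hne
    ext <;> simp [f, ent_mul, e00, e01, e10, e11, hσa]
    · exact mul_comm _ _
    · field_simp; linear_combination ι ((s : M23) 0 1) * ha4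
    · field_simp; linear_combination ι ((s : M23) 1 0) * ha4
    · exact mul_comm _ _
  · have hd : dg (c := c) a ^ 4 = dg (a ^ 4) := (map_pow dgHom a 4).symm
    have hu : a ^ 4 = -1 := Units.ext (by simpa using ha4)
    rw [hd, hu, hθ]
    ext <;> simp [f, map_neg]
  · rintro ⟨s, hs⟩
    have h0 : ι ((s : M23) 0 0) = ((a ^ 2 : Fˣ) : F) := by
      rw [show dg (c := c) a ^ 2 = dg (a ^ 2) from (map_pow dgHom a 2).symm] at hs
      exact congrArg (fun g => ent g 0 0) hs
    rw [Units.val_pow_eq_pow_val, ← hδ] at h0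
    have h1 : ι ((s : M23) 0 0 * (s : M23) 0 0) = ι (-1) := by rw [map_mul, h0, hδδ, map_neg, map_one]
    have h2 := RingHom.injective ι h1
    exact sq_ne_neg_one _ h2
  · rw [card_W, hq]; norm_num

/-- Any such group is `GU(2,3)`. -/
theorem nonempty_equiv_GU {X : Type u} [Group X] (d : Data X) (hq : c.q = 3) :
    Nonempty (X ≃* Cfsg.GU 2 F c.q) := by
  obtain ⟨d'⟩ := exists_data c hq
  obtain ⟨e⟩ := d.nonempty_equiv d'
  obtain ⟨e'⟩ := U3Cent.exists_equiv c
  exact ⟨e.trans e'⟩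

end Model

end CfsgLib.QThree.GU
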