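import Cfsg.Agent.Lib.QThree.Core
import Cfsg.Agent.Lib.QThree.GUIso
import Cfsg.Agent.Lib.SuborbitGroups.SDCore
import Cfsg.Agent.S0484
import Cfsg.Agent.S0485

/-!
`q = 3`: the centraliser is `GL(2,3)` or `GU(2,3)`, so the group is a model.

Blueprint: `blueprint/RankTwo.md`, P10.
-/

set_option autoImplicit false
set_option linter.unusedSectionVars false
set_option linter.style.haveILetI false

namespace CfsgLib.QThree

open Cfsg CfsgLib.BrauerOrder CfsgLib.BrauerOrder.Line CfsgLib.RankTwoModel CfsgLib.GLTwoThreeExt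
open CfsgLib.QuatSection (SL23)

universe u

theorem outer_cent : ∀ x : M23, x.det = -1 → x * x = 1 → ∀ s : SL23, x * (s : M23) = (s : M23) * x →
    s = 1 ∨ s = -1 := by decide +kernel

theorem center_sl : ∀ s : SL23, s * genU = genU * s → s * genL = genL * s → s = 1 ∨ s = -1 := by decide +kernel

theorem flip_flip : ∀ s : SL23, GU.flip' (GU.flip' s) = s := by decide +kernel

theorem det_dgm : GU.dgm.det = -1 := by decide +kernel

theorem dgm_sq : GU.dgm * GU.dgm = 1 := by decide +kernel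

variable {G : Type u} [Group G] [Finite G] (h : Hyp G) {d : Frame G} (hd : d.Spec) (hq : d.q = 3)

include h hd hq

theorem oddCore_eq_bot : oddCore ↥(Subgroup.centralizer ({d.z} : Set G)) = ⊥ :=
  (Subgroup.map_eq_bot_iff_of_injective _ (Subgroup.subtype_injective _)).mp (core_eq_bot h hd hq)

/-- An element of odd order of the centraliser commuting with a second involution is trivial. -/
theorem odd_eq_one {c y : ↥(Subgroup.centralizer ({d.z} : Set G))} (ho : Odd (orderOf c)) (hy : orderOf y = 2)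
    (hne : (y : G) ≠ d.z) (hcy : Commute c y) : c = 1 := by
  have hm := mem_core h hd hq c.2 (by rwa [Subgroup.orderOf_coe]) (y := (y : G))
    (by rwa [Subgroup.orderOf_coe]) (Subgroup.mem_centralizer_singleton_iff.mp y.2) hne (congrArg Subtype.val hcy.eq)
  rw [oddCore_eq_bot h hd hq, Subgroup.mem_bot] at hm
  exact hm

/-- Semidihedral Sylow subgroups: the centraliser is `GL(2,3)`. -/
theorem model_qd {D : TwoData d.z} (hD : D.Spec d.U d.S) (hZ2 : Nat.card D.L.Z = 2) : Model G := by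
  classical
  haveI := h.simple
  haveI : Fact (Nat.Prime 2) := ⟨Nat.prime_two⟩
  haveI : Fact (Nat.Prime 3) := ⟨Nat.prime_three⟩
  obtain ⟨e⟩ := hd.sl
  have hF : Fintype.card d.F = 3 := hd.card.trans hq
  have hodd : Odd (Fintype.card d.F) := by rw [hF]; decide
  set C := Subgroup.centralizer ({d.z} : Set G)
  have hbot := oddCore_eq_bot h hd hq
  have hcore : ∀ x : C, x ∈ oddCore C → x = 1 := fun x hx => by rwa [hbot, Subgroup.mem_bot] at hx
  obtain ⟨hnorm, hnc, huniq, hcQ⟩ := sylow_part D.L hD.loc hodd (commutator (C ⧸ oddCore C)) e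
  obtain ⟨-, hQc⟩ := hD.quat _ inf_le_left hnorm hnc huniq
  rw [hcQ, hF, show (3 : ℕ) ^ 2 - 1 = 2 ^ 3 by norm_num, padicValNat.prime_pow, hZ2] at hQc
  have hz1 : D.zc ≠ 1 := fun e' => by
    have h1 := congrArg Subtype.val e'
    rw [hD.zcv] at h1
    have := hd.zord
    rw [show d.z = 1 from h1, orderOf_one] at this
    omega
  have hw1 : D.w ≠ 1 := fun e' => hD.wZ (e' ▸ one_mem _)
  have hwz : D.w ≠ D.zc := fun e' => hD.wZ (e' ▸ hD.zcZ)
  have hzz : D.zc * D.zc = 1 := Subtype.ext (by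
    rw [Subgroup.coe_mul, hD.zcv, Subgroup.coe_one, ← pow_two, ← hd.zord, pow_orderOf_eq_one])
  have hwzc : D.w * D.zc ≠ 1 := fun e' => hwz (mul_right_cancel (b := D.zc) (e'.trans hzz.symm))
  have hzcen : ∀ c : C, c * D.zc = D.zc * c := fun c =>
    Subtype.ext (by rw [Subgroup.coe_mul, Subgroup.coe_mul, hD.zcv]; exact Subgroup.mem_centralizer_singleton_iff.mp c.2)
  -- the centraliser of `w`
  obtain ⟨K, hK, hK2, hKi⟩ := cent hD.loc hD.wT hD.wZ
  have hwo : orderOf D.w = 2 := orderOf_eq_prime (by rw [pow_two, hD.wsq]) hw1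
  have hKbot : K = ⊥ := by
    rw [Subgroup.eq_bot_iff_forall]
    intro k hk
    have ho : Odd (orderOf (k : C)) := by
      rw [Subgroup.orderOf_coe]
      exact Odd.of_dvd_nat (Nat.odd_iff.mpr (Nat.two_dvd_ne_zero.mp hK2)) (Subgroup.orderOf_dvd_natCard _ hk)
    refine Subtype.ext (odd_eq_one h hd hq ho hwo (fun e' => hwz (Subtype.ext (e'.trans hD.zcv.symm))) ?_)
    exact Subgroup.mem_centralizer_singleton_iff.mp k.2
  rw [hKbot, Subgroup.index_bot, hD.cardU, hZ2] at hKi
  have hcd : D.zc * D.w = D.w * D.zc := (hzcen D.w).symm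
  let emb : Fin 4 → ↥(Subgroup.centralizer ({D.w} : Set C)) := ![1, ⟨D.zc, Subgroup.mem_centralizer_singleton_iff.mpr hcd⟩,
    ⟨D.w, Subgroup.mem_centralizer_singleton_iff.mpr rfl⟩,
    ⟨D.w * D.zc, Subgroup.mem_centralizer_singleton_iff.mpr (by rw [mul_assoc, hcd])⟩]
  have hinj : Function.Injective emb := by
    intro i j e'
    have e'' := congrArg Subtype.val e'
    fin_cases i <;> fin_cases j <;> simp [emb, hz1, Ne.symm hz1, hw1, Ne.symm hw1, hwz, Ne.symm hwz, hwzc,
      Ne.symm hwzc] at e'' ⊢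
  have hbij : Function.Bijective emb :=
    (Nat.bijective_iff_injective_and_card emb).mpr ⟨hinj, by rw [Nat.card_fin, hKi]; norm_num⟩
  have hV : ∀ c : C, c * D.w = D.w * c → c = 1 ∨ c = D.zc ∨ c = D.w ∨ c = D.w * D.zc := by
    intro c hc
    obtain ⟨i, hi⟩ := hbij.2 ⟨c, Subgroup.mem_centralizer_singleton_iff.mpr hc⟩
    have hi' : (emb i : C) = c := congrArg Subtype.val hi
    fin_cases i <;> simp [emb] at hi' <;> simp [← hi']
  have h16 : 16 ∣ Nat.card (C ⧸ oddCore C) := by
    rw [show Nat.card (C ⧸ oddCore C) = Nat.card C by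
      rw [← Subgroup.index_eq_card, hbot, Subgroup.index_bot]]
    exact (by rw [← hQc]; norm_num : 16 ∣ Nat.card (D.L.S : Subgroup C)).trans (Subgroup.card_subgroup_dvd_card _)
  obtain ⟨⟨ψ⟩, -⟩ := CfsgLib.SuborbitGroups.SD.quotient_gl (oddCore C) CfsgLib.odd_card_oddCore
    (z := D.zc) (v := D.w) (Subgroup.mem_center_iff.mpr hzcen) (fun hx => hz1 (hcore _ hx)) hD.wsq hzz
    (fun hx => hw1 (hcore _ hx)) (fun hx => hwzc (hcore _ hx)) hV h16 hodd e
  have E : C ≃* (GL (Fin 2) (ZMod 3) ⧸ (⊥ : Subgroup (GL (Fin 2) (ZMod 3)))) :=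
    (((QuotientGroup.quotientMulEquivOfEq hbot).trans QuotientGroup.quotientBot).symm.trans ψ).trans
      QuotientGroup.quotientBot.symm
  have h3 : Odd (Fintype.card (ZMod 3)) := by rw [ZMod.card]; decide
  rcases Cfsg.Agent.S0484.result h3 ⊥ bot_le (by rw [Subgroup.card_bot]; exact odd_one) d.z hd.zord ⟨E⟩ with hg | hg
  · exact Or.inl ⟨ZMod 3, inferInstance, inferInstance, h3, hg⟩
  · exact Or.inr (Or.inr hg)

/-- Wreathed Sylow subgroups: the centraliser is `GU(2,3)`. -/
theorem model_wreathed {D : TwoData d.z} (hD : D.Spec d.U d.S) (hZ4 : 4 ≤ Nat.card D.L.Z) : Model G := by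
  classical
  haveI := h.simple
  haveI : Fact (Nat.Prime 2) := ⟨Nat.prime_two⟩
  haveI : Fact (Nat.Prime 3) := ⟨Nat.prime_three⟩
  obtain ⟨e⟩ := hd.sl
  have hF : Fintype.card d.F = 3 := hd.card.trans hq
  have hF' : Fintype.card d.F = 3 ^ 1 := by rw [hF, pow_one]
  have hodd : Odd (Fintype.card d.F) := by rw [hF]; decide
  have hL := hD.loc
  set C := Subgroup.centralizer ({d.z} : Set G)
  have hbot := oddCore_eq_bot h hd hq
  have hcore : ∀ x : C, x ∈ oddCore C → x = 1 := fun x hx => by rwa [hbot, Subgroup.mem_bot] at hx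
  set N := commutator (C ⧸ oddCore C) with hN
  have hcom : ∀ a b : C ⧸ oddCore C, a * b * a⁻¹ * b⁻¹ ∈ N := fun a b => by
    rw [← commutatorElement_def]
    exact Subgroup.commutator_mem_commutator (Subgroup.mem_top a) (Subgroup.mem_top b)
  -- the orders of `Z` and of the Sylow subgroup
  obtain ⟨hnorm, hnc, huniq, hcQ⟩ := sylow_part D.L hL hodd N e
  obtain ⟨-, hQc⟩ := hD.quat _ inf_le_left hnorm hnc huniq
  rw [hcQ, hF, show (3 : ℕ) ^ 2 - 1 = 2 ^ 3 by norm_num, padicValNat.prime_pow] at hQc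
  have hZ : Nat.card D.L.Z = 4 := by
    have hdvd := Subgroup.card_dvd_of_le (hL.tle true)
    rw [hD.cardU, ← hQc, pow_two] at hdvd
    have hlt : Nat.card D.L.Z ≠ 8 := fun h8 => n_not_mem hL true (by
      rw [Subgroup.eq_of_le_of_card_ge (hL.tle true) (by rw [hD.cardU, ← hQc, h8]; norm_num)]
      exact hL.nmem true)
    have h8 : Nat.card D.L.Z ∣ 8 := Nat.dvd_of_mul_dvd_mul_right (by omega) hdvd
    obtain ⟨j, hj, ej⟩ := (Nat.dvd_prime_pow Nat.prime_two).mp (show Nat.card D.L.Z ∣ 2 ^ 3 from h8)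
    rw [ej] at hlt hZ4 ⊢
    interval_cases j <;> simp_all
  rw [hZ] at hQc
  have hZc : ∀ u ∈ D.L.Z, ∀ c : C, c * u = u * c := fun u hu c => by
    have h1 := hcore _ (hL.zcent u hu c)
    rwa [mul_inv_eq_one, mul_inv_eq_iff_eq_mul] at h1
  -- the embedding of `SL(2,3)`
  obtain ⟨σ₀⟩ := CfsgLib.GWConseq.QDCentre.sl_three_equiv hF
  let ε : N ≃* SL23 := e.trans σ₀
  let ψ : C ⧸ oddCore C ≃* C := (QuotientGroup.quotientMulEquivOfEq hbot).trans QuotientGroup.quotientBot
  have hψ : ∀ c : C, ψ (c : C ⧸ oddCore C) = c := fun _ => rfl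
  have hψ' : ∀ x, ((ψ x : C) : C ⧸ oddCore C) = x := fun x => ψ.injective (hψ _)
  let θ : SL23 →* C := ψ.toMonoidHom.comp (N.subtype.comp ε.symm.toMonoidHom)
  have hθinj : Function.Injective θ := ψ.injective.comp (Subtype.val_injective.comp ε.symm.injective)
  have hθmem : ∀ c : C, c ∈ θ.range ↔ (c : C ⧸ oddCore C) ∈ N := by
    refine fun c => ⟨?_, fun hc => ⟨ε ⟨_, hc⟩, ?_⟩⟩
    · rintro ⟨s, rfl⟩
      show ((ψ _ : C) : C ⧸ oddCore C) ∈ N
      rw [hψ']
      exact (ε.symm s).2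
    · show ψ ((ε.symm (ε ⟨_, hc⟩) : N) : C ⧸ oddCore C) = c
      rw [ε.symm_apply_apply]
      exact hψ c
  haveI hθn : θ.range.Normal := ⟨fun x hx g => by
    rw [hθmem] at hx ⊢
    rw [QuotientGroup.mk_mul, QuotientGroup.mk_mul, QuotientGroup.mk_inv]
    exact (inferInstance : N.Normal).conj_mem _ hx _⟩
  have h24 : Nat.card θ.range = 24 :=
    (Nat.card_congr (MonoidHom.ofInjective hθinj).toEquiv).symm.trans GU.Data.card_sl
  -- the action on four points
  let φ : C →* Equiv.Perm (Sylow 3 N) := (MulAction.toPermHom _ _).comp (act N)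
  have h4 : Nat.card (Sylow 3 N) = 4 := by rw [card_points e hF' one_ne_zero, hF]
  have hker2 : IsPGroup 2 φ.ker := fun g => by
    obtain ⟨k, r, hr, hk⟩ := Nat.exists_eq_two_pow_mul_odd (orderOf_pos (g : C)).ne'
    refine ⟨k, Subtype.ext (hcore _ (mem_core_of_fix e hF hcom ?_ fun P => ?_))⟩
    · refine hr.of_dvd_nat ((orderOf_map_dvd (QuotientGroup.mk' (oddCore C)) _).trans (dvd_of_eq ?_))
      rw [SubgroupClass.coe_pow, orderOf_pow_of_dvd (by positivity) (hk ▸ dvd_mul_right _ _), hk,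
        Nat.mul_div_cancel_left _ (by positivity)]
    · exact congrArg (fun p : Equiv.Perm (Sylow 3 N) => p P) (φ.mem_ker.mp (g ^ 2 ^ k).2)
  have hkerS : φ.ker ≤ (D.L.S : Subgroup C) := by
    obtain ⟨T, hT⟩ := hker2.exists_le_sylow
    obtain ⟨g, hg⟩ := MulAction.exists_smul_eq C T D.L.S
    intro x hx
    rw [← hg]
    have h1 := Subgroup.smul_mem_pointwise_smul _ (MulAut.conj g) _
      (hT ((inferInstance : φ.ker.Normal).conj_mem x hx g⁻¹))
    rw [show (MulAut.conj g • (g⁻¹ * x * g⁻¹⁻¹) : C) = x by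
      show g * (g⁻¹ * x * g⁻¹⁻¹) * g⁻¹ = x
      group] at h1
    exact h1
  have hker : φ.ker = D.L.Z := by
    refine le_antisymm (fun x hx => ?_) fun u hu => φ.mem_ker.mpr ?_
    · by_contra hxZ
      have h1 : fx N 3 x = 4 := by
        rw [fx, ← h4]
        exact Nat.card_congr (Equiv.subtypeUnivEquiv fun P =>
          congrArg (fun p : Equiv.Perm (Sylow 3 N) => p P) (φ.mem_ker.mp hx))
      rcases Line.fx_cases (p := 3) hL hF' one_ne_zero hodd e (hkerS hx) hxZ with h2 | h2 <;> omega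
    · show MulAction.toPermHom _ _ (act N u) = 1
      rw [act_z hL hu, map_one]
  -- the order of the centraliser
  have hcard : Nat.card C = 96 := by
    have h1 := φ.ker.card_mul_index
    rw [Subgroup.index_ker, hker, hZ] at h1
    have h2 : Nat.card φ.range ∣ 24 := by
      refine (Subgroup.card_subgroup_dvd_card _).trans (dvd_of_eq ?_)
      rw [Nat.card_perm, h4]; rfl
    have h3 : 32 ∣ Nat.card C :=
      (by rw [← hQc]; norm_num : 32 ∣ Nat.card (D.L.S : Subgroup C)).trans (Subgroup.card_subgroup_dvd_card _)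
    have h4' : 24 ∣ Nat.card C := h24 ▸ Subgroup.card_subgroup_dvd_card _
    refine Nat.dvd_antisymm (by rw [← h1]; exact Nat.mul_dvd_mul_left 4 h2) ?_
    exact (show (96 : ℕ) = Nat.lcm 32 24 by decide) ▸ Nat.lcm_dvd h3 h4'
  -- what centralises `SL(2,3)`
  have hcen : ∀ c : C, (∀ s, c * θ s = θ s * c) → c ∈ D.L.Z := fun c hc => by
    rw [← hker]
    refine φ.mem_ker.mpr ?_
    show MulAction.toPermHom _ _ (act N c) = 1
    rw [act_eq_one fun m => ?_, map_one]
    have h1 := congrArg (QuotientGroup.mk' (oddCore C)) (hc (ε m))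
    have h2 : ((θ (ε m) : C) : C ⧸ oddCore C) = m := by
      show ((ψ ((ε.symm (ε m) : N) : C ⧸ oddCore C) : C) : C ⧸ oddCore C) = m
      rw [hψ', ε.symm_apply_apply]
    simpa [map_mul, h2] using h1
  have hzc1 : D.zc ≠ 1 := fun e' => by
    have h1 := congrArg Subtype.val e'
    rw [hD.zcv] at h1
    have := hd.zord
    rw [show d.z = 1 from h1, orderOf_one] at this
    omega
  have hzz : D.zc * D.zc = 1 := Subtype.ext (by
    rw [Subgroup.coe_mul, hD.zcv, Subgroup.coe_one, ← pow_two, ← hd.zord, pow_orderOf_eq_one])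
  have hneg : θ (-1) = D.zc := by
    refine (hD.zonly _ (hcen _ fun s => by rw [← map_mul, ← map_mul]; simp) (by rw [← map_mul]; simp)).resolve_left ?_
    intro e'
    exact absurd (hθinj (e'.trans (map_one θ).symm)) (by decide)
  have hrZ : ∀ s, θ s ∈ D.L.Z → s = 1 ∨ s = -1 := fun s hs =>
    center_sl s (hθinj (by rw [map_mul, map_mul, hZc _ hs])) (hθinj (by rw [map_mul, map_mul, hZc _ hs]))
  have hsq4 : ∀ a ∈ D.L.Z, a * a ≠ 1 → a * a = D.zc := by
    intro a ha hne
    refine (hD.zonly _ (mul_mem ha ha) ?_).resolve_left hne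
    have := Subgroup.orderOf_dvd_natCard _ ha
    rw [hZ, orderOf_dvd_iff_pow_eq_one] at this
    rw [← this]; simp [pow_succ, mul_assoc]
  -- the action of an element on `SL(2,3)`
  have hall : ∀ g : C, ∃ (σ : SL23 → SL23) (x : M23), x.det ≠ 0 ∧ (∀ s, g * θ s * g⁻¹ = θ (σ s)) ∧
      ∀ s : SL23, x * (s : M23) = (σ s : M23) * x := by
    intro g
    choose σ hσ using fun s : SL23 => hθn.conj_mem _ ⟨s, rfl⟩ g
    have hσm : ∀ a b, σ (a * b) = σ a * σ b := fun a b => hθinj (by
      rw [map_mul, hσ, hσ, hσ, map_mul]; group)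
    have hσ1 : σ 1 = 1 := hθinj (by rw [hσ, map_one, mul_one, mul_inv_cancel])
    have hσp : ∀ a (k : ℕ), σ (a ^ k) = σ a ^ k := fun a k => by
      induction k with
      | zero => rw [pow_zero, pow_zero, hσ1]
      | succ k ih => rw [pow_succ, pow_succ, hσm, ih]
    have hσi : Function.Injective σ := fun a b h' => hθinj (by
      have h'' := congrArg θ h'
      rw [hσ, hσ] at h''
      exact mul_left_cancel (mul_right_cancel h''))
    obtain ⟨u3, u1, l3, l1, ul4, ul2⟩ := gen_facts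
    obtain ⟨x, hx0, hxu, hxl⟩ := pair_conj (σ genU) (σ genL) (by rw [← hσp, u3, hσ1])
      (fun h' => u1 (hσi (h'.trans hσ1.symm))) (by rw [← hσp, l3, hσ1])
      (fun h' => l1 (hσi (h'.trans hσ1.symm))) (by rw [← hσm, ← hσp, ul4, hσ1])
      (fun h' => ul2 (hσi (by rw [hσp, hσm, h', hσ1])))
    refine ⟨σ, x, hx0, fun s => (hσ s).symm, ?_⟩
    let M : Submonoid SL23 :=
      { carrier := {s | x * (s : M23) = (σ s : M23) * x}
        one_mem' := by
          show x * ((1 : SL23) : M23) = (σ 1 : M23) * x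
          rw [hσ1]; simp
        mul_mem' := fun {a b} ha hb => by
          show x * ((a * b : SL23) : M23) = (σ (a * b) : M23) * x
          rw [hσm, Matrix.SpecialLinearGroup.coe_mul, Matrix.SpecialLinearGroup.coe_mul, ← mul_assoc, ha,
            mul_assoc, hb, mul_assoc] }
    intro s
    obtain ⟨a, b, c, c', rfl⟩ := gen_word s
    exact mul_mem (mul_mem (mul_mem (pow_mem (show genU ∈ M from hxu) _) (pow_mem (show genL ∈ M from hxl) _))
      (pow_mem (show genU ∈ M from hxu) _)) (pow_mem (show genL ∈ M from hxl) _)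
  let Inner : C → Prop := fun g => ∃ v, (θ v)⁻¹ * g ∈ D.L.Z
  have hInner : ∀ g : C, Inner g ∨ ∃ (σ : SL23 → SL23) (x : M23), x.det = -1 ∧
      (∀ s, g * θ s * g⁻¹ = θ (σ s)) ∧ ∀ s : SL23, x * (s : M23) = (σ s : M23) * x := by
    intro g
    obtain ⟨σ, x, hx0, hg, hx⟩ := hall g
    rcases det_cases _ hx0 with h1 | h1
    · refine Or.inl ⟨mkSL x h1, hcen _ fun s => ?_⟩
      have h2 : mkSL x h1 * s = σ s * mkSL x h1 := Subtype.ext (hx s)
      calc (θ (mkSL x h1))⁻¹ * g * θ s = (θ (mkSL x h1))⁻¹ * (g * θ s * g⁻¹) * g := by group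
        _ = (θ (mkSL x h1))⁻¹ * θ (σ s * mkSL x h1) * ((θ (mkSL x h1))⁻¹ * g) := by rw [hg, map_mul]; group
        _ = _ := by rw [← h2, map_mul, inv_mul_cancel_left]
    · exact Or.inr ⟨σ, x, h1, hg, hx⟩
  have hconj : ∀ g t : C, Inner t → Inner (g * t * g⁻¹) := by
    rintro g t ⟨v, hv⟩
    obtain ⟨σ, -, -, hg, -⟩ := hall g
    refine ⟨σ v, ?_⟩
    rw [← hg v, show (g * θ v * g⁻¹)⁻¹ * (g * t * g⁻¹) = g * ((θ v)⁻¹ * t) * g⁻¹ by group, hZc _ hv g,
      mul_inv_cancel_right]
    exact hv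
  have hmulZ : ∀ g u : C, Inner g → u ∈ D.L.Z → Inner (g * u) := fun g u ⟨v, hv⟩ hu =>
    ⟨v, by rw [← mul_assoc]; exact mul_mem hv hu⟩
  have hw : Inner D.w := by
    refine (hInner D.w).resolve_right ?_
    rintro ⟨σ, x, hx1, hg, hx⟩
    have hσσ : ∀ s, σ (σ s) = s := fun s => hθinj (by
      rw [← hg, ← hg, show D.w * (D.w * θ s * D.w⁻¹) * D.w⁻¹ = (D.w * D.w) * θ s * (D.w * D.w)⁻¹ by group,
        hD.wsq]
      group)
    have hxx : x * x = 1 := sq_scalar x hx1 (by rw [mul_assoc, hx, ← mul_assoc, hx, hσσ, mul_assoc])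
      (by rw [mul_assoc, hx, ← mul_assoc, hx, hσσ, mul_assoc])
    -- the torus meets `SL(2,3)` in at least four elements
    have h1 : 2 < Nat.card (θ.range.subgroupOf (D.L.T true)) := by
      have h2 := (θ.range.subgroupOf (D.L.T true)).card_mul_index
      rw [hD.cardU, hZ, ← Subgroup.relIndex] at h2
      have h3 := θ.range.card_mul_index
      rw [h24, hcard] at h3
      have h5 := Nat.le_of_dvd (by omega : 0 < θ.range.index) (Subgroup.relIndex_dvd_index_of_normal θ.range (D.L.T true))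
      have h6 : θ.range.index = 4 := by omega
      rw [h6] at h5
      by_contra hle
      have := Nat.mul_le_mul (not_lt.mp hle) h5
      omega
    refine absurd h1 (not_lt.mpr ?_)
    have h7 : ∀ y : θ.range.subgroupOf (D.L.T true), ∃ s : SL23, θ s = ((y : D.L.T true) : C) ∧ (s = 1 ∨ s = -1) := by
      intro y
      obtain ⟨s, hs⟩ := y.2
      refine ⟨s, hs, outer_cent x hx1 hxx s ?_⟩
      have hfix : σ s = s := hθinj (by
        rw [← hg, show θ s = ((y : D.L.T true) : C) from hs,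
          hL.tcomm true _ hD.wT _ (y : D.L.T true).2, mul_inv_cancel_right])
      have h8 := hx s
      rwa [hfix] at h8
    choose f hf hf2 using h7
    refine (Nat.card_le_card_of_injective (fun y => (⟨f y, by rcases hf2 y with e' | e' <;> simp [e']⟩ :
      ({1, -1} : Set SL23))) fun a b e' => Subtype.ext (Subtype.ext ?_)).trans ?_
    · rw [← hf a, ← hf b, show f a = f b from congrArg Subtype.val e']
    · rw [Nat.card_coe_set_eq]
      exact (Set.ncard_insert_le _ _).trans (by rw [Set.ncard_singleton])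
  have hinv : ∀ y : C, y * y = 1 → Inner y := by
    intro y hy
    obtain ⟨t, hyt, ht⟩ := hL.exh y
      ((Nat.dvd_prime_pow Nat.prime_two).mp (show orderOf y ∣ 2 ^ 1 from orderOf_dvd_of_pow_eq_one (by
        rw [pow_one, pow_two, hy])) |>.imp fun _ hk => hk.2)
    obtain ⟨g, hg⟩ := isConj_iff.mp hyt.symm
    have htt : t * t = 1 := by
      have h1 : g * (t * t) * g⁻¹ = 1 := by rw [← hy, ← hg]; group
      exact conj_eq_one_iff.mp h1
    have hone : ∀ u ∈ D.L.Z, Inner u := fun u hu => ⟨1, by simpa using hu⟩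
    rw [← hg]
    refine hconj g t ?_
    rcases ht with ht | ht | ht
    · exact hone t ht
    · by_cases h1 : t = 1
      · exact h1 ▸ hone 1 (one_mem _)
      · obtain ⟨i, hi⟩ := hD.powN t ht h1
        refine hone t ?_
        rcases Nat.even_or_odd' i with ⟨j, rfl | rfl⟩
        · rw [pow_mul, pow_two, htt, one_pow] at hi
          exact absurd hi.symm hzc1
        · rw [pow_succ, pow_mul, pow_two, htt, one_pow, one_mul] at hi
          exact hi ▸ hD.zcZ
    · rcases hD.invU t ht htt with rfl | rfl | rfl | rfl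
      exacts [hone _ (one_mem _), hone _ hD.zcZ, hw, by rw [← hZc _ hD.zcZ D.w]; exact hmulZ _ _ hw hD.zcZ]
  -- an element outside
  obtain ⟨g, hg⟩ : ∃ g, ¬ Inner g := by
    by_contra hno
    push Not at hno
    let μ : SL23 × D.L.Z → C := fun a => θ a.1 * (a.2 : C)
    have hs : Function.Surjective μ := fun c => by
      obtain ⟨v, hv⟩ := hno c
      exact ⟨⟨v, ⟨_, hv⟩⟩, mul_inv_cancel_left _ _⟩
    have hb := (Nat.bijective_iff_surjective_and_card μ).mpr
      ⟨hs, by rw [Nat.card_prod, GU.Data.card_sl, hZ, hcard]⟩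
    have h1 : μ (-1, ⟨D.zc, hD.zcZ⟩) = μ (1, 1) := by
      show θ (-1) * D.zc = θ 1 * 1
      rw [hneg, hzz, map_one, mul_one]
    exact hzc1 (congrArg Subtype.val (congrArg Prod.snd (hb.1 h1)))
  obtain ⟨σ, x, hx1, hgσ, hx⟩ := (hInner g).resolve_left hg
  -- the element acting as the diagonal matrix
  set y : M23 := GU.dgm * -Matrix.adjugate x with hy
  have hyx : y * x = GU.dgm := by
    rw [hy, mul_assoc, neg_mul, Matrix.adjugate_mul, hx1]
    simp
  have hdy : y.det = 1 := by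
    have h1 := congrArg Matrix.det hyx
    rw [Matrix.det_mul, hx1, det_dgm] at h1
    simpa using h1
  have hxr : x * -Matrix.adjugate x = 1 := by
    rw [mul_neg, Matrix.mul_adjugate, hx1]
    simp
  set t : C := θ (mkSL y hdy) * g with ht
  have htθ : ∀ s, t * θ s = θ (GU.flip' s) * t := by
    intro s
    have h1 : mkSL y hdy * σ s = GU.flip' s * mkSL y hdy := Subtype.ext (by
      show y * (σ s : M23) = GU.dgm * (s : M23) * GU.dgm * y
      have h2 : y * (σ s : M23) * x = GU.dgm * (s : M23) * GU.dgm * y * x := by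
        rw [mul_assoc y, ← hx s, ← mul_assoc, hyx, mul_assoc (GU.dgm * (s : M23) * GU.dgm), hyx,
          mul_assoc (GU.dgm * (s : M23)), dgm_sq, mul_one]
      have h3 := congrArg (· * -Matrix.adjugate x) h2
      simpa only [mul_assoc _ x, hxr, mul_one] using h3)
    calc t * θ s = θ (mkSL y hdy) * (g * θ s * g⁻¹) * g := by rw [ht]; group
      _ = θ (mkSL y hdy * σ s) * g := by rw [hgσ, map_mul]
      _ = _ := by rw [h1, map_mul, ht, mul_assoc]
  have htI : ¬ Inner t := by
    rintro ⟨v, hv⟩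
    refine hg ⟨(mkSL y hdy)⁻¹ * v, ?_⟩
    rwa [map_mul, map_inv, mul_inv_rev, inv_inv, mul_assoc, ← ht]
  have ht2Z : t * t ∈ D.L.Z := hcen _ fun s => by
    rw [mul_assoc, htθ, ← mul_assoc, htθ, flip_flip, mul_assoc]
  have ht2 : t * t ≠ 1 := fun e' => htI (hinv t e')
  have ht2' : t * t ≠ D.zc := by
    intro e'
    obtain ⟨a, ha, ha2⟩ : ∃ a ∈ D.L.Z, a * a ≠ 1 := by
      by_contra hno
      push Not at hno
      have hle : Nat.card D.L.Z ≤ 2 := by
        refine (Nat.card_le_card_of_surjective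
          (fun i : Fin 2 => ![(1 : D.L.Z), ⟨D.zc, hD.zcZ⟩] i) fun u => ?_).trans (by simp)
        rcases hD.zonly _ u.2 (hno _ u.2) with h1 | h1
        exacts [⟨0, Subtype.ext h1.symm⟩, ⟨1, Subtype.ext h1.symm⟩]
      omega
    have h1 : t * a * (t * a) = 1 := by
      rw [mul_assoc, ← mul_assoc a, ← hZc a ha t, ← mul_assoc, ← mul_assoc, e', mul_assoc, hsq4 a ha ha2, hzz]
    refine htI ?_
    have := hmulZ _ _ (hinv _ h1) (inv_mem ha)
    rwa [mul_inv_cancel_right] at this
  have h22 : (t * t) * (t * t) ≠ 1 := fun e' => by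
    rcases hD.zonly _ ht2Z e' with h1 | h1
    exacts [ht2 h1, ht2' h1]
  let data : GU.Data C :=
    { θ := θ
      t := t
      inj := hθinj
      conj := htθ
      four := by rw [hneg, ← hsq4 _ ht2Z h22]; simp [pow_succ, mul_assoc]
      sq := by
        rintro ⟨s, hs⟩
        rw [pow_two] at hs
        rcases hrZ s (hs ▸ ht2Z) with rfl | rfl
        · exact ht2 (hs.symm.trans (map_one θ))
        · exact ht2' (hs.symm.trans hneg)
      card := hcard }
  -- the unitary group over the field of nine elements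
  letI : Fintype (GaloisField 3 2) := Fintype.ofFinite _
  have h9 : Fintype.card (GaloisField 3 2) = 3 ^ 2 := by
    rw [← Nat.card_eq_fintype_card, GaloisField.card 3 2 two_ne_zero]
  obtain ⟨-, fr, hfr⟩ := CfsgLib.UnitaryBasic.frob_exists h9
  let c : CfsgLib.PSUBorel.Conj (GaloisField 3 2) := ⟨3, fr, h9, hfr⟩
  obtain ⟨E⟩ := GU.nonempty_equiv_GU c data rfl
  have hg' := Cfsg.Agent.S0485.result (G := G) (F := GaloisField 3 2) 3 (by decide) h9 ⊥ bot_le
    (by rw [Subgroup.card_bot]; exact odd_one) d.z hd.zord ⟨E.trans QuotientGroup.quotientBot.symm⟩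
  exact Or.inr (Or.inl ⟨GaloisField 3 2, inferInstance, inferInstance, 3, h9, by decide, hg'⟩)

/-- **`q = 3`: the group is a model.** -/
theorem q_three_model : Model G := by
  haveI := h.simple
  obtain ⟨D, hD⟩ : ∃ D : TwoData d.z, D.Spec d.U d.S := by
    rcases hd.qw with hS | hS
    · exact exists_twoData_qd h.noncomm d.S hS d.z hd.zord hd.zS hd.zc d.U hd.US hd.klein
    · exact exists_twoData_wreathed h.noncomm d.S hS d.z hd.zord hd.zS hd.zc d.U hd.US hd.klein (hd.Un hS)
  rcases hD.shape with ⟨-, h2⟩ | ⟨-, h4⟩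
  · exact model_qd h hd hq hD h2
  · exact model_wreathed h hd hq hD h4

end CfsgLib.QThree
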